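import Cfsg.Agent.Lib.Fi24.Out.Trans

/-!
The interface between the local recognition in a group of large Fischer type and the global homomorphism:
copies of Fi23 at three mutually commuting transpositions of the presented Fi24, agreeing on their meets.
-/

set_option autoImplicit false

namespace Cfsg.Agent.Lib.Fi24Recog91

open Cfsg.Agent.Lib

/-- The presented Fi24. -/
abbrev M : Type := Fi24.G

/-- The even elements centralising the transposition of a point. -/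
def evenCent (p : ℕ) : Subgroup M := Subgroup.centralizer ({Fi24.Out.tau p} : Set M) ⊓ commutator M

/-- The even elements centralising two transpositions. -/
def evenCent₂ (p q : ℕ) : Subgroup M := evenCent p ⊓ evenCent q

/-- The point of `b`. -/
def ptB : ℕ := 12

/-- The point of the transposition commuting with every node but `j`. -/
def ptX : ℕ := 72453

/-- The point of a transposition commuting with `b`, the third point and `l`, not with `k`. -/
def ptA : ℕ := 169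

/-- The three copies and what is used of the centraliser of a duad. -/
structure Frames (G : Type*) [Group G] (z : G) where
  /-- the copy at the base point -/
  ψ₀ : evenCent 0 →* G
  /-- the copy at `b` -/
  ψB : evenCent ptB →* G
  /-- the copy at the third point -/
  ψX : evenCent ptX →* G
  inj : Function.Injective ψ₀
  agreeB : ∀ (x : M) (h : x ∈ evenCent 0) (h' : x ∈ evenCent ptB), ψ₀ ⟨x, h⟩ = ψB ⟨x, h'⟩
  agreeX : ∀ (x : M) (h : x ∈ evenCent 0) (h' : x ∈ evenCent ptX), ψ₀ ⟨x, h⟩ = ψX ⟨x, h'⟩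
  agreeBX : ∀ (x : M) (h : x ∈ evenCent ptB) (h' : x ∈ evenCent ptX), ψB ⟨x, h⟩ = ψX ⟨x, h'⟩
  cent_K : ∀ (hd : Fi24.Out.tau 0 * Fi24.Out.tau ptA ∈ evenCent 0) (g : G),
    Commute g (ψ₀ ⟨_, hd⟩) →
      (∀ (x : M) (hx : x ∈ evenCent₂ 0 ptA), Commute g (ψ₀ ⟨x, hx.1⟩)) → g = 1 ∨ g = ψ₀ ⟨_, hd⟩
  norm_K : ∀ q : ℕ, q = ptB ∨ q = ptA → ∀ (hd : Fi24.Out.tau 0 * Fi24.Out.tau q ∈ evenCent 0) (g : G),
    Commute g (ψ₀ ⟨_, hd⟩) → ∀ (x : M) (hx : x ∈ evenCent₂ 0 q),
      ∃ (y : M) (hy : y ∈ evenCent₂ 0 q), g * ψ₀ ⟨x, hx.1⟩ * g⁻¹ = ψ₀ ⟨y, hy.1⟩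
  card_duad : ∀ (hd : Fi24.Out.tau 0 * Fi24.Out.tau ptB ∈ evenCent 0),
    Nat.card ↥(Subgroup.centralizer ({ψ₀ ⟨_, hd⟩} : Set G)) = 2 * Nat.card ↥(evenCent₂ 0 ptB)
  not_conj_z : ∀ (hd : Fi24.Out.tau 0 * Fi24.Out.tau ptB ∈ evenCent 0), ¬ IsConj z (ψ₀ ⟨_, hd⟩)
  meets_z : ∀ (hd : Fi24.Out.tau 0 * Fi24.Out.tau ptB ∈ evenCent 0),
    ∃ z' : G, IsConj z z' ∧ Commute z' (ψ₀ ⟨_, hd⟩)

end Cfsg.Agent.Lib.Fi24Recog91
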