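import Cfsg.Prelude.Def_MonsterType
import Cfsg.Agent.Lib.LargeFischer13.Bridge

/-!
The order of the centraliser of `z` in a group of large Fischer type.
-/

set_option autoImplicit false
set_option linter.style.haveILetI false

namespace Cfsg.Agent.Lib.Fi24Recog91

open Cfsg.Agent.Lib

theorem card_cent_of_type {G : Type*} [Group G] [Finite G] {z : G}
    {Q : Subgroup (Subgroup.centralizer ({z} : Set G))} [Q.Normal] (hF : Cfsg.IsOfLargeFischerTypeAt z Q) :
    Nat.card ↥(Subgroup.centralizer ({z} : Set G)) = 3 * 2 ^ 13 * 6531840 := by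
  obtain ⟨⟨-, -, -, hcard, -⟩, N, M, hNn, hMn, hQN, hNM, hN, ⟨K, fK, ftK, hK, ⟨e⟩⟩, hM⟩ := hF
  have h1 := Subgroup.card_mul_index M
  have h2 := Subgroup.card_eq_card_quotient_mul_card_subgroup (N.subgroupOf M)
  rw [Nat.card_congr e.toEquiv, LargeFischer13.card_psu4 hK,
    Nat.card_congr (Subgroup.subgroupOfEquivOfLe hNM).toEquiv, hN, hcard] at h2
  rw [← h1, hM, h2]
  norm_num

end Cfsg.Agent.Lib.Fi24Recog91
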