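import Cfsg.Agent.Lib.Fi24Recog91.Check.P0
import Cfsg.Agent.Lib.Fi24Recog91.Check.P1
import Cfsg.Agent.Lib.Fi24Recog91.Check.P2
import Cfsg.Agent.Lib.Fi24Recog91.Check.P3
import Cfsg.Agent.Lib.Fi24Recog91.Check.P4
import Cfsg.Agent.Lib.Fi24Recog91.Check.P5

/-! The checks at all points. -/

set_option autoImplicit false

namespace Cfsg.Agent.Lib.Fi24Recog91

theorem pointOK_all : ∀ i < 306936, pointOK i = true := by
  intro i hi
  by_cases h : i < 51156
  · exact pt0_range i (by omega) h
  by_cases h : i < 102312
  · exact pt1_range i (by omega) h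
  by_cases h : i < 153468
  · exact pt2_range i (by omega) h
  by_cases h : i < 204624
  · exact pt3_range i (by omega) h
  by_cases h : i < 255780
  · exact pt4_range i (by omega) h
  exact pt5_range i (by omega) hi

end Cfsg.Agent.Lib.Fi24Recog91
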