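import Cfsg.Agent.Lib.Fi24.Class
import Cfsg.Agent.Lib.FischerExist27.M24
import Cfsg.Agent.Lib.FischerMTypes.InvolutionsM24
import Cfsg.Agent.Lib.FischerMTypes.M24Data
import Cfsg.Agent.Lib.FischerQuad75.Main
import Cfsg.Agent.S1691

/-!
The involutions of the derived group of the presented Fi24: products of two or of four commuting
transpositions, each kind a single class of the derived group.
-/

set_option autoImplicit false
set_option maxRecDepth 20000
set_option linter.style.haveILetI false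

namespace Cfsg.Agent.Lib.Fi24Recog91

open Cfsg.Agent.Lib
open Cfsg.Agent.Lib.Fi24 (xg)
open Cfsg.Agent.Lib.Fi24.Out (tau transps)
open Cfsg.Agent.Lib.FischerMTypes.Step (IsProd)

theorem m24_group : Cfsg.IsThreeTranspositionGroup transps ∧ Cfsg.IsPrimitiveUnderConj transps ∧
    Cfsg.IsOfTypeM24 Fi24.G transps := by
  obtain ⟨F⟩ := Fi24.Out.nonempty_oFacts
  obtain ⟨h3, -, hgen⟩ := F.isThreeTranspositionClass
  obtain ⟨ρ, ρ₂₃, A⟩ := FischerExist27.M24.exists_action (Fi24.cosetAction_of_points Fi24.points_ok)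
  obtain ⟨h, C, hprim⟩ := FischerExist27.M24.exists_class A
  have hclass : transps = conjugatesOf (xg 0) := by
    ext y
    show y ∈ transps ↔ IsConj (xg 0) y
    constructor
    · rintro ⟨p, rfl⟩
      exact isConj_iff.2 ⟨(Fi24.Cert.rep xg Fi24.tree p.1)⁻¹, by rw [inv_inv]; rfl⟩
    · intro hy
      obtain ⟨c, rfl⟩ := isConj_iff.1 hy
      refine ⟨F.mv c⁻¹ Fi24.pt0, ?_⟩
      show tau (F.mv c⁻¹ Fi24.pt0).1 = _
      rw [← F.tau_mv c⁻¹ Fi24.pt0, inv_inv, show (Fi24.pt0 : Fin 306936).1 = 0 from rfl, Fi24.Out.tau_zero]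
  have e : Set.range h.pt = transps := by rw [hclass]; exact h.range_pt
  have hinv : ∀ g : Fi24.G, ∀ d ∈ transps, g * d * g⁻¹ ∈ transps := fun g d hd => by
    rw [hclass] at hd ⊢
    exact (hd : IsConj _ d).trans (isConj_iff.2 ⟨g, rfl⟩)
  refine ⟨⟨h3, hinv, hgen⟩, e ▸ hprim, e ▸ ?_⟩
  refine ⟨h.center_eq_bot, FischerExist27.M24.d,
    ⟨FischerExist27.M24.o, h.pt_base⟩, h.pt FischerExist27.M24.r₂, ⟨_, rfl⟩,
    fun hc => C.moved (h.pt_injective ?_), FischerExist27.M24.type_stab A C, FischerExist27.M24.type_part A C⟩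
  rw [← h.pt_conj, hc.eq, mul_inv_cancel_right]

theorem parity_transp {a : Fi24.G} (ha : a ∈ transps) :
    Cfsg.Agent.S1691.parity a = Multiplicative.ofAdd (1 : ZMod 2) := by
  obtain ⟨p, rfl⟩ := ha
  show Cfsg.Agent.S1691.parity (_⁻¹ * xg 0 * _) = _
  rw [map_mul, map_mul, map_inv, mul_comm (_⁻¹ : Multiplicative (ZMod 2)), mul_assoc, inv_mul_cancel, mul_one]
  rfl

theorem parity_ker {a : Fi24.G} (ha : a ∈ commutator Fi24.G) : Cfsg.Agent.S1691.parity a = 1 :=
  Abelianization.commutator_subset_ker _ ha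

theorem transp_not_mem {a : Fi24.G} (ha : a ∈ transps) : a ∉ commutator Fi24.G := fun h => by
  have h1 := parity_ker h
  rw [parity_transp ha] at h1
  exact absurd h1 (by decide)

theorem even_of_prod {m : ℕ} {x : Fi24.G} (hm : IsProd transps m x) (hx : x ∈ commutator Fi24.G) :
    m % 2 = 0 := by
  obtain ⟨l, -, hlen, hl, -, rfl⟩ := hm
  have h1 : ∀ k : List Fi24.G, (∀ a ∈ k, a ∈ transps) →
      Cfsg.Agent.S1691.parity k.prod = Multiplicative.ofAdd (1 : ZMod 2) ^ k.length := by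
    intro k
    induction k with
    | nil => intro _; simp
    | cons a k ih =>
      intro hk
      rw [List.prod_cons, map_mul, parity_transp (hk a List.mem_cons_self),
        ih fun b hb => hk b (List.mem_cons_of_mem _ hb), List.length_cons, pow_succ']
  have h := parity_ker hx
  rw [h1 l hl, hlen, ← Nat.mod_add_div m 2, pow_add, pow_mul,
    show Multiplicative.ofAdd (1 : ZMod 2) ^ 2 = 1 by decide, one_pow, mul_one] at h
  rcases Nat.mod_two_eq_zero_or_one m with h2 | h2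
  · exact h2
  · rw [h2] at h; exact absurd h (by decide)

theorem involution_kinds {x : Fi24.G} (hx : x ∈ commutator Fi24.G) (h2 : orderOf x = 2) :
    IsProd transps 2 x ∨ IsProd transps 4 x := by
  haveI : Finite Fi24.G := Fi24.finite_G
  obtain ⟨hD, hprim, ht⟩ := m24_group
  obtain ⟨Q, i₁, i₂, E, Q₂, j₁, j₂, E₂, F, iF, iF', S22, S23, hM, ⟨S⟩⟩ :=
    FischerMTypes.M24Data.exists_step hD hprim ht
  obtain ⟨h1, -, -⟩ := FischerMTypes.InvolutionsM24.four_classes S22 S23 S hM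
    (FischerMTypes.M24Data.pinned S22 S23 hM ht S)
  obtain ⟨m, hm1, hm4, hm⟩ := h1 x h2
  have := even_of_prod hm hx
  obtain rfl | rfl : m = 2 ∨ m = 4 := by omega
  · exact Or.inl hm
  · exact Or.inr hm

theorem conj_in_derived {m : ℕ} (hm : 1 ≤ m) (hm4 : m ≤ 4) {x y : Fi24.G} (hx : IsProd transps m x)
    (hy : IsProd transps m y) : ∃ g ∈ commutator Fi24.G, g * x * g⁻¹ = y := by
  haveI : Finite Fi24.G := Fi24.finite_G
  obtain ⟨hD, hprim, ht⟩ := m24_group
  obtain ⟨Q, i₁, i₂, E, Q₂, j₁, j₂, E₂, F, iF, iF', S22, S23, hM, ⟨S⟩⟩ :=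
    FischerMTypes.M24Data.exists_step hD hprim ht
  obtain ⟨-, h2, -⟩ := FischerMTypes.InvolutionsM24.four_classes S22 S23 S hM
    (FischerMTypes.M24Data.pinned S22 S23 hM ht S)
  obtain ⟨g, hg⟩ := isConj_iff.1 ((h2 m hm hm4).2 x y hx hy)
  by_cases hgc : g ∈ commutator Fi24.G
  · exact ⟨g, hgc, hg⟩
  obtain ⟨l, -, hlen, hl, hcomm, rfl⟩ := hx
  obtain ⟨a, ha⟩ : ∃ a, a ∈ l := by
    cases l with
    | nil => simp at hlen; omega
    | cons a l => exact ⟨a, List.mem_cons_self⟩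
  have hac : Commute a l.prod := Commute.list_prod_right l a fun b hb => hcomm a ha b hb
  refine ⟨g * a, (Subgroup.mul_mem_iff_of_index_two Cfsg.Agent.S1691.result).2
    ⟨fun h => absurd h hgc, fun h => absurd h (transp_not_mem (hl a ha))⟩, ?_⟩
  rw [show g * a * l.prod * (g * a)⁻¹ = g * (a * l.prod * a⁻¹) * g⁻¹ by group, hac.eq, mul_inv_cancel_right]
  exact hg

theorem card_quad_cent {x : Fi24.G} (hx : IsProd transps 4 x) :
    Nat.card ↥(commutator Fi24.G ⊓ Subgroup.centralizer ({x} : Set Fi24.G)) = 3 * 2 ^ 13 * 6531840 := by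
  classical
  haveI : Finite Fi24.G := Fi24.finite_G
  letI := Fintype.ofFinite Fi24.G
  obtain ⟨hD, hprim, ht⟩ := m24_group
  obtain ⟨Q, i₁, i₂, E, Q₂, j₁, j₂, E₂, F, iF, iF', S22, S23, hM, ⟨S⟩⟩ :=
    FischerMTypes.M24Data.exists_step hD hprim ht
  obtain ⟨A⟩ := FischerQuad75.exists_lab
    (K := (⟨hD, hprim, ht, hM, S22, S23, S⟩ : FischerMTypes32.Data24 transps E E₂ F)) hx
  exact A.card_CL hx

end Cfsg.Agent.Lib.Fi24Recog91
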