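import Cfsg.Agent.Lib.Fi24.Words
import Cfsg.Agent.Lib.Fi24.Data.Table
import Cfsg.Agent.Lib.Fi24Recog91.Data

/-!
The words and the check at one point for the recognition of Fi24.

An element is given by a word; it sends a point `p` to the scan of the reversed word from `p`.
-/

set_option autoImplicit false
set_option maxRecDepth 20000

namespace Cfsg.Agent.Lib.Fi24Recog91

open Cfsg.Agent.Lib.CosetEnum (force)
open Cfsg.Agent.Lib.Fi24 (table)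
open Cfsg.Agent.Lib.Fi24.Cert (col19 tget scanT)

/-- The generators of the small group: the products of `b` and a later letter, and one inverse. -/
def gens : List (List ℕ) :=
  [[3, 4], [3, 5], [3, 6], [3, 7], [3, 8], [3, 9], [3, 10], [3, 11], [4, 3]]

/-- The number of the inverse generator. -/
def invGen : List ℕ := [8, 1, 2, 3, 4, 5, 6, 7, 0]

/-- The representatives of the orbits of the small group. -/
def roots : List ℕ := [0, 1, 2, 12, 305302, 304338, 169, 147, 112, 686]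

/-- The path from the base point to the point 169. -/
def aPath : List ℕ := [1, 2, 3, 4, 5, 6, 10, 5, 4, 3, 2, 1]

/-- The product of the transpositions of the points 0 and 169. -/
def aWord : List ℕ := 0 :: (aPath.reverse ++ 0 :: aPath)

/-- The four factors of the element turning the three orbits of length 1080. -/
def hParts : List (List ℕ) :=
  [[2, 3, 1, 2, 0, 1, 0, 1, 0, 2, 1, 3, 2, 9, 8, 7, 5, 6, 2, 3, 4, 5, 10, 11, 4, 5, 6, 3, 4, 5, 10, 9, 8,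
    7, 6, 5, 4, 3, 1, 2, 0, 1, 0, 1, 0, 2, 1, 3, 4, 5, 6, 7, 8, 9, 10, 5, 4, 3, 6, 5, 4, 11, 10, 5, 4, 3,
    2, 6, 5, 7, 8, 9],
   [7, 5, 6, 1, 2, 3, 4, 5, 10, 8, 7, 6, 5, 4, 3, 2, 1, 0, 1, 2, 3, 4, 5, 6, 7, 8, 10, 5, 4, 3, 2, 1, 6,
    5, 7, 7, 6, 5, 10, 11, 3, 4, 5, 10, 6, 5, 4, 3, 1, 2, 0, 1, 0, 1, 0, 2, 1, 3, 4, 5, 6, 10, 5, 4, 3,
    11, 10, 5, 6, 7],
   [11, 5, 10, 4, 5, 6, 3, 4, 5, 10, 11, 10, 7, 5, 6, 3, 4, 5, 10, 8, 7, 6, 5, 4, 3, 1, 2, 0, 1, 0, 1, 0,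
    2, 1, 3, 4, 5, 6, 7, 8, 10, 5, 4, 3, 6, 5, 7, 10, 11, 10, 5, 4, 3, 6, 5, 4, 10, 5, 11, 7, 5, 6, 1, 2,
    3, 4, 5, 10, 8, 7, 6, 5, 4, 3, 2, 1, 0, 1, 2, 3, 4, 5, 6, 7, 8, 10, 5, 4, 3, 2, 1, 6, 5, 7],
   [9, 8, 7, 5, 6, 2, 3, 4, 5, 10, 11, 4, 5, 6, 3, 4, 5, 10, 9, 8, 7, 6, 5, 4, 3, 1, 2, 0, 1, 0, 1, 0, 2,
    1, 3, 4, 5, 6, 7, 8, 9, 10, 5, 4, 3, 6, 5, 4, 11, 10, 5, 4, 3, 2, 6, 5, 7, 8, 9, 2, 3, 1, 2, 0, 1, 0,
    1, 0, 2, 1, 3, 2]]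

/-- The element turning the three orbits of length 1080. -/
def hWord : List ℕ := hParts.flatten

/-- The conjugate of the product of two transpositions by `l k`. -/
def tWord : List ℕ := [0, 1] ++ aWord ++ [1, 0]

/-- An element fixing 12 and exchanging 0 and 169. -/
def gWord : List ℕ :=
  [9, 8, 7, 6, 5, 10, 8, 7, 4, 5, 6, 3, 4, 5, 10, 11, 7, 6, 3, 4, 5, 10, 8, 7, 6, 5, 4, 3, 2, 0, 1, 0, 1,
    0, 2, 3, 4, 5, 6, 7, 8, 10, 5, 4, 3, 6, 7, 11, 10, 5, 4, 3, 6, 5, 4, 7, 8, 10, 5, 6, 7, 8, 9, 11, 5,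
    10, 6, 7, 5, 6, 4, 5, 10, 11, 3, 4, 5, 10, 9, 8, 7, 6, 5, 4, 3, 2, 0, 1, 0, 1, 0, 2, 3, 4, 5, 6, 7,
    8, 9, 10, 5, 4, 3, 11, 10, 5, 4, 6, 5, 7, 6, 10, 5, 11]

/-- An element fixing 0 and exchanging 12 and 169. -/
def g0Word : List ℕ :=
  [5, 10, 11, 7, 6, 5, 10, 7, 4, 5, 6, 3, 4, 5, 10, 11, 7, 5, 6, 1, 2, 3, 4, 5, 10, 8, 7, 6, 5, 4, 3, 2, 1,
    0, 1, 2, 3, 4, 5, 6, 7, 8, 10, 5, 4, 3, 2, 1, 6, 5, 7, 11, 10, 5, 4, 3, 6, 5, 4, 7, 10, 5, 6, 7, 11,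
    10, 5, 11, 6, 5, 10, 8, 6, 7, 4, 5, 6, 3, 4, 5, 10, 11, 7, 4, 5, 6, 3, 4, 5, 10, 8, 7, 6, 5, 4, 3, 1,
    2, 0, 1, 0, 1, 0, 2, 1, 3, 4, 5, 6, 7, 8, 10, 5, 4, 3, 6, 5, 4, 7, 11, 10, 5, 4, 3, 6, 5, 4, 7, 6, 8,
    10, 5, 6, 11]

/-- An element sending 0 to 12, 169 to 0 and 12 to 169. -/
def kWord : List ℕ := (gWord ++ g0Word).reverse

/-- An element exchanging 0 and 12. -/
def sWord : List ℕ := g0Word ++ gWord ++ g0Word

/-- Points outside the neighbourhood of 0 with elements fixing 0 and 12 that send 2 there. -/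
def farWords : List (ℕ × List ℕ) :=
  [(1, [0, 4, 5, 3, 4, 2, 3, 1, 2, 0, 1, 0, 1, 0, 2, 1, 3, 2, 4, 3, 5, 4]),
   (2, []),
   (147, [5, 10, 6, 5, 4, 3, 1, 2, 0, 1, 0, 1, 0, 2, 1, 3, 4, 5, 6, 10, 5, 4, 3, 1, 2, 0, 1, 0, 1, 0, 2,
    1, 3, 4]),
   (112, [0, 5, 10, 6, 5, 4, 3, 1, 2, 0, 1, 0, 1, 0, 2, 1, 3, 4, 5, 6, 10, 5, 5, 4, 3, 1, 2, 0, 1, 0, 1,
    0, 2, 1, 3, 4, 5, 4, 3, 1, 2, 0, 1, 0, 1, 0, 2, 1, 3, 4]),
   (686, [0, 11, 10, 7, 6, 5, 4, 3, 1, 2, 0, 1, 0, 1, 0, 2, 1, 3, 4, 5, 6, 7, 10, 11, 5, 10, 6, 5, 4, 3,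
    1, 2, 0, 1, 0, 1, 0, 2, 1, 3, 4, 5, 6, 10, 5, 4, 3, 1, 2, 0, 1, 0, 1, 0, 2, 1, 3, 4]),
   (1286, [5, 10, 7, 6, 5, 4, 3, 1, 2, 0, 1, 0, 1, 0, 2, 1, 3, 4, 5, 6, 7, 10, 5, 6, 2, 3, 4, 5, 10, 11,
    10, 5, 6, 3, 4, 5, 10, 7, 6, 5, 4, 3, 1, 2, 0, 1, 0, 1, 0, 2, 1, 3, 4, 5, 6, 7, 10, 5, 4, 3, 6, 5,
    10, 11, 10, 5, 4, 3, 2, 6])]

/-- For each letter after `k`: two points of the orbit of 169, the transposition of the first sending the second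
to the point of the letter. -/
def triPts : List (ℕ × ℕ) := [(6, 6), (6, 9), (9, 13), (13, 18), (18, 26), (26, 39), (39, 60), (60, 90), (18, 27), (27, 40)]

/-- The paths to the first of those points. -/
def triPaths : List (List ℕ) :=
  [[1, 0, 2, 1],
   [1, 0, 2, 1],
   [1, 0, 2, 1, 3],
   [1, 0, 2, 1, 3, 4],
   [1, 0, 2, 1, 3, 4, 5],
   [1, 0, 2, 1, 3, 4, 5, 6],
   [1, 0, 2, 1, 3, 4, 5, 6, 7],
   [1, 0, 2, 1, 3, 4, 5, 6, 7, 8],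
   [1, 0, 2, 1, 3, 4, 5],
   [1, 0, 2, 1, 3, 4, 5, 10]]

/-- The number of the root of a point. -/
noncomputable def rootOf (p : ℕ) : ℕ := Nat.mod (col19 orb p) 16

/-- The last generator on the way to a point. -/
noncomputable def genOf (p : ℕ) : ℕ := Nat.mod (Nat.div (col19 orb p) 16) 16

/-- The distance of a point from its root. -/
noncomputable def rankOf (p : ℕ) : ℕ := Nat.div (col19 orb p) 256

/-- The word from a point to the one before it. -/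
noncomputable def backWord (k : ℕ) : List ℕ := gens.getD (invGen.getD k 0) []

/-- The orbit data are right at `p`; the points commuting with `l` and `k` lie in the three orbits of length
1080, and only 12 among them is fixed by the seven generators fixing it. -/
noncomputable def pointOK (p : ℕ) : Bool :=
  (force (col19 orb p) fun e => force (Nat.mod e 16) fun r => force (Nat.div e 256) fun d =>
    Nat.blt r 10 &&
    ((Nat.beq d 0 && Nat.beq p (roots.getD r 0)) ||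
      (force (scanT table (backWord (Nat.mod (Nat.div e 16) 16)) p) fun q => Nat.blt q 306936 &&
        (force (col19 orb q) fun e' => Nat.beq (Nat.mod e' 16) r && Nat.blt (Nat.div e' 256) d))) &&
    (!(Nat.beq (tget table p 0) p && Nat.beq (tget table p 1) p) ||
      (Nat.blt 2 r && Nat.blt r 6 &&
        (Nat.beq p 12 || !([5, 6, 7, 8, 9, 10, 11].all fun g => Nat.beq (scanT table [g, 3] p) p)))))

end Cfsg.Agent.Lib.Fi24Recog91
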