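import Cfsg.Agent.Lib.Fi24Recog91.Known

/-!
A subgroup of the target for each point, permuted as the points are by the elements at 0 and by `l k`.
-/

set_option autoImplicit false
set_option maxRecDepth 20000
set_option linter.style.haveILetI false

namespace Cfsg.Agent.Lib.Fi24Recog91

open Cfsg.Agent.Lib
open Cfsg.Agent.Lib.Fi24 (table xg)
open Cfsg.Agent.Lib.Fi24.Cert (col19 tget scanT)
open Cfsg.Agent.Lib.Fi24.Out (OFacts tau val genPts)

attribute [local irreducible] Fi24.table Fi24.tree Fi24.small Fi24.big orb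

variable {G : Type*} [Group G]

/-- The conjugate of a subgroup. -/
def conjSg (g : G) (Y : Subgroup G) : Subgroup G := Y.map (MulAut.conj g).toMonoidHom

theorem conjSg_mul (a b : G) (Y : Subgroup G) : conjSg a (conjSg b Y) = conjSg (a * b) Y := by
  rw [conjSg, conjSg, conjSg, Subgroup.map_map]
  congr 1
  ext x
  simp [mul_assoc]

theorem mem_conjSg {g x : G} {Y : Subgroup G} : x ∈ conjSg g Y ↔ g⁻¹ * x * g ∈ Y := by
  rw [conjSg, Subgroup.mem_map_equiv, MulAut.conj_symm_apply]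

theorem conjSg_one (Y : Subgroup G) : conjSg 1 Y = Y := by
  ext x; rw [mem_conjSg, inv_one, one_mul, mul_one]

theorem conjSg_self {g : G} {Y : Subgroup G} (h : g ∈ Y) : conjSg g Y = Y := by
  ext x
  rw [mem_conjSg]
  exact ⟨fun hx => by simpa [mul_assoc] using mul_mem (mul_mem h hx) (inv_mem h),
    fun hx => mul_mem (mul_mem (inv_mem h) hx) h⟩

variable {z : G} (Φ : Frames G z) (F : OFacts)

/-- The subgroup at 0. -/
def Y0 : Subgroup G := Φ.ψ₀.range

/-- The subgroup at 12. -/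
def YB : Subgroup G := Φ.ψB.range

theorem p0_mem_Y0 {x : M} (hx : x ∈ evenCent 0) : p0 Φ x ∈ Y0 Φ := by
  rw [p0_of Φ hx]; exact ⟨_, rfl⟩

theorem pB_mem_YB {x : M} (hx : x ∈ evenCent ptB) : pB Φ x ∈ YB Φ := by
  rw [pB_of Φ hx]; exact ⟨_, rfl⟩

theorem exists_p0 {y : G} (hy : y ∈ Y0 Φ) : ∃ x ∈ evenCent 0, p0 Φ x = y := by
  obtain ⟨⟨x, hx⟩, rfl⟩ := hy
  exact ⟨x, hx, p0_of Φ hx⟩

/-- `Y` is the subgroup at the point `p`. -/
def IsF (p : Fin 306936) (Y : Subgroup G) : Prop :=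
  (p = pt 0 ∧ Y = Y0 Φ) ∨ ∃ x ∈ evenCent 0,
    (F.act x (pt 12) = p ∧ Y = conjSg (p0 Φ x) (YB Φ)) ∨
    (F.act x (pt 2) = p ∧ Y = conjSg (p0 Φ x * uEl Φ) (Y0 Φ))

/-- At `p` the subgroup is the conjugate of that at 0 by any even element at 12 moving 0 to `p`. -/
def IsFB (p : Fin 306936) : Prop :=
  ∀ g ∈ evenCent ptB, F.act g (pt 0) = p → IsF Φ F p (conjSg (pB Φ g) (Y0 Φ))

theorem act_lit {x : M} {p : ℕ} (hp : p < 306936) (hx : x ∈ evenCent p) : F.act x (pt p) = pt p :=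
  ((mem_evenCent_iff F x (pt p)).1 (by rwa [pt_val hp])).1

theorem mem_lit {x : M} {p : ℕ} (hp : p < 306936) (h : F.act x (pt p) = pt p) (hc : x ∈ commutator M) :
    x ∈ evenCent p := by
  have := (mem_evenCent_iff F x (pt p)).2 ⟨h, hc⟩
  rwa [pt_val hp] at this

theorem act0 {x : M} (hx : x ∈ evenCent 0) : F.act x (pt 0) = pt 0 := act_lit F (by omega) hx

theorem small_ne {x : M} (hx : x ∈ evenCent 0) : F.act x (pt 12) ≠ pt 0 := fun h => by
  rw [← act0 F hx] at h
  exact absurd (congrArg Fin.val ((F.act x).injective h)) (by decide)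

theorem far_ne {x : M} (hx : x ∈ evenCent 0) : F.act x (pt 2) ≠ pt 0 := fun h => by
  rw [← act0 F hx] at h
  exact absurd (congrArg Fin.val ((F.act x).injective h)) (by decide)

theorem small_ne_far {x y : M} (hx : x ∈ evenCent 0) (hy : y ∈ evenCent 0) :
    F.act x (pt 12) ≠ F.act y (pt 2) := fun h => by
  have hc : ∀ w ∈ evenCent 0, w * xg 0 = xg 0 * w := fun w hw => by
    rw [← Fi24.Out.tau_zero]; exact Subgroup.mem_centralizer_singleton_iff.1 hw.1
  have h12 : F.act (xg 0) (pt 12) = pt 12 := Fin.ext (by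
    rw [act_xg F (by omega), pt_val (show 12 < 306936 by omega)]; decide +kernel)
  have h1 : F.act (xg 0) (F.act x (pt 12)) = F.act x (pt 12) := by
    rw [← act_mul F, ← hc x hx, act_mul F, h12]
  rw [h, ← act_mul F, ← hc y hy, act_mul F] at h1
  have h2 := congrArg Fin.val ((F.act y).injective h1)
  rw [act_xg F (by omega), pt_val (show 2 < 306936 by omega)] at h2
  exact absurd h2 (by decide +kernel)

include F in
theorem stab_B {g g' : M} (hg : g ∈ evenCent ptB) (hg' : g' ∈ evenCent ptB)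
    (h : F.act g (pt 0) = F.act g' (pt 0)) : conjSg (pB Φ g) (Y0 Φ) = conjSg (pB Φ g') (Y0 Φ) := by
  have hz : g'⁻¹ * g ∈ evenCent ptB := mul_mem (inv_mem hg') hg
  have hz0 : g'⁻¹ * g ∈ evenCent 0 :=
    mem_lit F (by omega) (by rw [act_mul F, h, act_inv_self F]) (evenCent_le _ hz)
  have e : pB Φ g = pB Φ g' * p0 Φ (g'⁻¹ * g) := by
    rw [p0_eq_pB Φ hz0 hz, ← pB_mul Φ hg' hz, mul_inv_cancel_left]
  rw [e, ← conjSg_mul, conjSg_self (p0_mem_Y0 Φ hz0)]

theorem isF_unique {p : Fin 306936} {Y Y' : Subgroup G} (h : IsF Φ F p Y) (h' : IsF Φ F p Y') : Y = Y' := by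
  rcases h with ⟨rfl, rfl⟩ | ⟨x, hx, ⟨e, rfl⟩ | ⟨e, rfl⟩⟩ <;>
    rcases h' with ⟨e', rfl⟩ | ⟨x', hx', ⟨e', rfl⟩ | ⟨e', rfl⟩⟩
  · rfl
  · exact absurd e' (small_ne F hx')
  · exact absurd e' (far_ne F hx')
  · exact absurd (e.trans e') (small_ne F hx)
  · have hz : x'⁻¹ * x ∈ evenCent 0 := mul_mem (inv_mem hx') hx
    have hzB : x'⁻¹ * x ∈ evenCent ptB := mem_lit F (by decide) (by
      show F.act (x'⁻¹ * x) (pt 12) = pt 12
      rw [act_mul F, e, ← e', act_inv_self F]) (evenCent_le _ hz)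
    have e2 : p0 Φ x = p0 Φ x' * p0 Φ (x'⁻¹ * x) := by rw [← p0_mul Φ hx' hz, mul_inv_cancel_left]
    rw [e2, ← conjSg_mul, p0_eq_pB Φ hz hzB, conjSg_self (pB_mem_YB Φ hzB)]
  · exact absurd (e.trans e'.symm) (small_ne_far F hx hx')
  · exact absurd (e.trans e') (far_ne F hx)
  · exact absurd (e'.trans e.symm) (small_ne_far F hx' hx)
  · have hz : x'⁻¹ * x ∈ evenCent 0 := mul_mem (inv_mem hx') hx
    have hz2 : x'⁻¹ * x ∈ evenCent 2 := mem_lit F (by omega) (by
      rw [act_mul F, e, ← e', act_inv_self F]) (evenCent_le _ hz)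
    have e2 : p0 Φ x * uEl Φ = p0 Φ x' * uEl Φ * p0 Φ (x'⁻¹ * x) := by
      rw [mul_assoc _ (uEl Φ), (commute_u Φ F ⟨hz, hz2⟩).eq, ← mul_assoc, ← p0_mul Φ hx' hz,
        mul_inv_cancel_left]
    rw [e2, ← conjSg_mul, conjSg_self (p0_mem_Y0 Φ hz)]

theorem isF_act {p : Fin 306936} {Y : Subgroup G} {x : M} (hx : x ∈ evenCent 0) (h : IsF Φ F p Y) :
    IsF Φ F (F.act x p) (conjSg (p0 Φ x) Y) := by
  rcases h with ⟨rfl, rfl⟩ | ⟨y, hy, ⟨rfl, rfl⟩ | ⟨rfl, rfl⟩⟩
  · exact Or.inl ⟨act0 F hx, conjSg_self (p0_mem_Y0 Φ hx)⟩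
  · exact Or.inr ⟨x * y, mul_mem hx hy, Or.inl ⟨act_mul F x y _, by rw [conjSg_mul, ← p0_mul Φ hx hy]⟩⟩
  · exact Or.inr ⟨x * y, mul_mem hx hy, Or.inr ⟨act_mul F x y _, by
      rw [conjSg_mul, p0_mul Φ hx hy, mul_assoc]⟩⟩

theorem isFB_zero : IsFB Φ F (pt 0) := fun g hg h => by
  have hg0 : g ∈ evenCent 0 := mem_lit F (by omega) h (evenCent_le _ hg)
  exact Or.inl ⟨rfl, by rw [← p0_eq_pB Φ hg0 hg, conjSg_self (p0_mem_Y0 Φ hg0)]⟩

theorem act_lk {p q : ℕ} (hp : p < 306936) (hq : q < 306936) (h : scanT table [1, 0] p = q) :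
    F.act lk (pt p) = pt q :=
  act_val_pt F (w := [0, 1]) (by simp) hp hq h

theorem far_elem {x : M} (hx : x ∈ evenCent 0) (hxB : x ∈ evenCent ptB) :
    x * lk ∈ evenCent ptB ∧ F.act (x * lk) (pt 0) = F.act x (pt 2) ∧ pB Φ (x * lk) = p0 Φ x * uEl Φ :=
  ⟨mul_mem hxB lk_memB, by rw [act_mul F, act_lk F (q := 2) (by omega) (by omega) (by decide +kernel)],
    by rw [pB_mul Φ hxB lk_memB, ← p0_eq_pB Φ hx hxB]; rfl⟩

theorem isFB_far {p : Fin 306936} {x : M} (hx : x ∈ evenCent 0) (hxB : x ∈ evenCent ptB)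
    (h : F.act x (pt 2) = p) : IsFB Φ F p := fun g hg he => by
  obtain ⟨h1, h2, h3⟩ := far_elem Φ F hx hxB
  refine Or.inr ⟨x, hx, Or.inr ⟨h, ?_⟩⟩
  rw [stab_B Φ F hg h1 (by rw [he, h2, h]), h3]

theorem farWords_ok : ∀ i < 6, evenOK (farWords.getD i (0, [])).2 0 = true ∧
    evenOK (farWords.getD i (0, [])).2 ptB = true ∧ (farWords.getD i (0, [])).1 < 306936 ∧
    scanT table (farWords.getD i (0, [])).2.reverse 2 = (farWords.getD i (0, [])).1 := by decide +kernel

theorem isFB_listed {i : ℕ} (hi : i < 6) : IsFB Φ F (pt (farWords.getD i (0, [])).1) := by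
  obtain ⟨h0, hB, hlt, hs⟩ := farWords_ok i hi
  exact isFB_far Φ F (val_mem (by omega) h0) (val_mem (by decide) hB)
    (act_val_pt F (evenOK_spec h0).1 (by omega) hlt hs)

theorem exists_listed {i : ℕ} (hi : i < 6) :
    ∃ g ∈ evenCent ptB, F.act g (pt 0) = pt (farWords.getD i (0, [])).1 := by
  obtain ⟨h0, hB, hlt, hs⟩ := farWords_ok i hi
  refine ⟨val (farWords.getD i (0, [])).2 * lk, mul_mem (val_mem (by decide) hB) lk_memB, ?_⟩
  rw [act_mul F, act_lk F (q := 2) (by omega) (by omega) (by decide +kernel)]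
  exact act_val_pt F (evenOK_spec h0).1 (by omega) hlt hs

theorem evenCent_ptB_eq :
    evenCent ptB = (evenCent 0).map (MulAut.conj (val sWord)).toMonoidHom := by
  obtain ⟨F⟩ := Fi24.Out.nonempty_oFacts
  have hs : F.act (val sWord) (pt 0) = pt 12 :=
    act_val_pt F (by decide +kernel) (by omega) (by omega) (by decide +kernel)
  ext x
  rw [Subgroup.mem_map_equiv, MulAut.conj_symm_apply]
  have h12 : ptB = (pt 12).1 := (pt_val (show 12 < 306936 by omega)).symm
  have h0 : (0 : ℕ) = (pt 0).1 := rfl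
  rw [h12, h0, ← hs]
  refine ⟨fun h => conj_inv_mem_evenCent F _ _ h, fun h => ?_⟩
  have h1 := conj_mem_evenCent F (val sWord) _ h
  rwa [show val sWord * ((val sWord)⁻¹ * x * val sWord) * (val sWord)⁻¹ = x by group] at h1

theorem card_evenCent_ptB : Nat.card ↥(evenCent ptB) = Nat.card ↥(evenCent 0) := by
  rw [evenCent_ptB_eq]
  exact Subgroup.card_map_of_injective (MulAut.conj (val sWord)).injective

theorem isFB_A : IsFB Φ F (pt 169) := by
  haveI : Finite M := Fi24.finite_G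
  set g := val gWord
  set g0 := val g0Word
  have hgl : ∀ x ∈ gWord, x < 12 := by decide +kernel
  have hg0l : ∀ x ∈ g0Word, x < 12 := by decide +kernel
  have hgB : g ∈ evenCent ptB := val_mem (by decide) (by decide +kernel)
  have hg00 : g0 ∈ evenCent 0 := val_mem (by omega) (by decide +kernel)
  have hga : F.act g (pt 0) = pt 169 := act_val_pt F hgl (by omega) (by omega) (by decide +kernel)
  have hgb : F.act g (pt 12) = pt 12 := act_lit F (by decide) hgB
  have hg0b : F.act g0 (pt 12) = pt 169 := act_val_pt F hg0l (by omega) (by omega) (by decide +kernel)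
  have hR : IsF Φ F (pt 169) (conjSg (p0 Φ g0) (YB Φ)) := Or.inr ⟨g0, hg00, Or.inl ⟨hg0b, rfl⟩⟩
  suffices conjSg (pB Φ g) (Y0 Φ) = conjSg (p0 Φ g0) (YB Φ) by
    intro g' hg' he
    rw [stab_B Φ F hg' hgB (he.trans hga.symm), this]
    exact hR
  set a := pB Φ g
  set b := p0 Φ g0
  -- the product of 0 and 12
  have hdv : tau 0 * tau 12 = val [0, 3] := by
    have h := (F.genPts_tau 3 (by omega)).2
    rw [show genPts.getD 3 0 = 12 by decide +kernel] at h
    rw [h, Fi24.Out.tau_zero]; simp [val]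
  have hd0 : val [0, 3] ∈ evenCent 0 := val_mem (by omega) (by decide +kernel)
  have hdB : val [0, 3] ∈ evenCent ptB := val_mem (by decide) (by decide +kernel)
  have hd : tau 0 * tau ptB ∈ evenCent 0 := by rw [ptB, hdv]; exact hd0
  have hla : tau 0 * tau ptA ∈ evenCent 0 := by rw [ptA, ← la_eq F]; exact la_mem0
  have hda : Commute a (Φ.ψ₀ ⟨_, hla⟩) := by
    rw [← p0_of Φ hla, ptA, ← la_eq F, p0_eq_pB Φ la_mem0 la_memB, Commute, SemiconjBy, ← pB_mul Φ hgB la_memB,
      ← pB_mul Φ la_memB hgB]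
    congr 1
    show val gWord * val aWord = val aWord * val gWord
    rw [← val_append, ← val_append]
    exact val_eq F (by decide +kernel) (by decide +kernel) (by decide +kernel)
  set e' := val (gWord ++ [0, 3] ++ gWord.reverse) with he'
  have he'g : e' = g * val [0, 3] * g⁻¹ := by rw [he', val_append, val_append, val_reverse gWord hgl]
  have he'0 : e' ∈ evenCent 0 := val_mem (by omega) (by decide +kernel)
  have hcom : g0 * e' = e' * g0 := by
    rw [he', show g0 = val g0Word from rfl, ← val_append, ← val_append]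
    exact val_eq F (by decide +kernel) (by decide +kernel) (by decide +kernel)
  have hpe : a * p0 Φ (val [0, 3]) * a⁻¹ = p0 Φ e' := by
    have he'B : e' ∈ evenCent ptB := by rw [he'g]; exact mul_mem (mul_mem hgB hdB) (inv_mem hgB)
    rw [p0_eq_pB Φ hd0 hdB, ← pB_conj Φ hgB hdB, ← he'g, p0_eq_pB Φ he'0 he'B]
  have hdb : Commute (a⁻¹ * b⁻¹ * a) (Φ.ψ₀ ⟨_, hd⟩) := by
    rw [← p0_of Φ hd, ptB, hdv, Commute, SemiconjBy]
    have hbe : b * p0 Φ e' = p0 Φ e' * b := by
      rw [← p0_mul Φ hg00 he'0, ← p0_mul Φ he'0 hg00, hcom]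
    calc a⁻¹ * b⁻¹ * a * p0 Φ (val [0, 3]) = a⁻¹ * b⁻¹ * (a * p0 Φ (val [0, 3]) * a⁻¹) * a := by group
      _ = a⁻¹ * b⁻¹ * (p0 Φ e' * b) * b⁻¹ * a := by rw [hpe]; group
      _ = a⁻¹ * p0 Φ e' * b⁻¹ * a := by rw [← hbe]; group
      _ = _ := by rw [← hpe]; group
  have hle : conjSg a (Y0 Φ) ≤ conjSg b (YB Φ) := by
    let S : Subgroup M :=
      { carrier := {x | x ∈ evenCent 0 ∧ a * p0 Φ x * a⁻¹ ∈ conjSg b (YB Φ)}
        one_mem' := ⟨one_mem _, by rw [p0_one, mul_one, mul_inv_cancel]; exact one_mem _⟩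
        mul_mem' := fun {x y} hx hy => ⟨mul_mem hx.1 hy.1, by
          rw [p0_mul Φ hx.1 hy.1, show a * (p0 Φ x * p0 Φ y) * a⁻¹ =
            a * p0 Φ x * a⁻¹ * (a * p0 Φ y * a⁻¹) by group]
          exact mul_mem hx.2 hy.2⟩
        inv_mem' := fun {x} hx => ⟨inv_mem hx.1, by
          rw [p0_inv Φ hx.1, show a * (p0 Φ x)⁻¹ * a⁻¹ = (a * p0 Φ x * a⁻¹)⁻¹ by group]
          exact inv_mem hx.2⟩ }
    have h1 : evenCent₂ 0 169 ≤ S := fun x hx => ⟨hx.1, by
      obtain ⟨y, hy, e⟩ := Φ.norm_K 169 (Or.inr rfl) hla a hda x hx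
      rw [p0_of Φ hx.1, e, ← p0_of Φ hy.1, mem_conjSg]
      have hyB : g0⁻¹ * y * g0 ∈ evenCent ptB := by
        have hy2 : y ∈ evenCent (F.act g0 (pt 12)).1 := by
          rw [hg0b, pt_val (show 169 < 306936 by omega)]; exact hy.2
        have h := conj_inv_mem_evenCent F g0 _ hy2
        rwa [pt_val (show 12 < 306936 by omega)] at h
      have hy0 : g0⁻¹ * y * g0 ∈ evenCent 0 := mul_mem (mul_mem (inv_mem hg00) hy.1) hg00
      rw [← p0_inv Φ hg00, ← p0_mul Φ (inv_mem hg00) hy.1, ← p0_mul Φ (mul_mem (inv_mem hg00) hy.1) hg00,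
        p0_eq_pB Φ hy0 hyB]
      exact pB_mem_YB Φ hyB⟩
    have h2 : evenCent₂ 0 12 ≤ S := fun x hx => ⟨hx.1, by
      obtain ⟨y, hy, e⟩ := Φ.norm_K ptB (Or.inl rfl) hd _ hdb x hx
      rw [← p0_of Φ hx.1, ← p0_of Φ hy.1] at e
      rw [mem_conjSg, show b⁻¹ * (a * p0 Φ x * a⁻¹) * b =
        a * (a⁻¹ * b⁻¹ * a * p0 Φ x * (a⁻¹ * b⁻¹ * a)⁻¹) * a⁻¹ by group, e, p0_eq_pB Φ hy.1 hy.2,
        ← pB_conj Φ hgB hy.2]
      exact pB_mem_YB Φ (mul_mem (mul_mem hgB hy.2) (inv_mem hgB))⟩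
    have hall : evenCent 0 ≤ S := by
      refine le_trans gen_evenCent0 ((Subgroup.closure_le _).2 ?_)
      rintro _ ⟨k, hk2, hk, rfl⟩
      have h : ∀ k < 12, k < 2 ∨ (evenOK [0, k] 0 = true ∧ (evenOK [0, k] 169 = true ∨ evenOK [0, k] 12 = true)) := by
        decide +kernel
      obtain ⟨h0, hAB⟩ := (h k hk).resolve_left (by omega)
      rw [SetLike.mem_coe, show xg 0 * xg k = val [0, k] by simp [val]]
      rcases hAB with h | h
      · exact h1 ⟨val_mem (by omega) h0, val_mem (by omega) h⟩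
      · exact h2 ⟨val_mem (by omega) h0, val_mem (by omega) h⟩
    intro y hy
    rw [mem_conjSg] at hy
    obtain ⟨x, hx, e⟩ := exists_p0 Φ hy
    have := (hall hx).2
    rwa [e, show a * (a⁻¹ * y * a) * a⁻¹ = y by group] at this
  haveI : Finite ↥(YB Φ) := Finite.of_surjective _ Φ.ψB.rangeRestrict_surjective
  haveI : Finite ↥(conjSg b (YB Φ)) :=
    Finite.of_equiv _ ((YB Φ).equivMapOfInjective _ (MulAut.conj b).injective).toEquiv
  refine Subgroup.eq_of_le_of_card_ge hle ?_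
  rw [conjSg, conjSg, Subgroup.card_map_of_injective (f := (MulAut.conj b).toMonoidHom) (MulAut.conj b).injective,
    Subgroup.card_map_of_injective (f := (MulAut.conj a).toMonoidHom) (MulAut.conj a).injective,
    show Nat.card ↥(Y0 Φ) = Nat.card ↥(evenCent 0) from Nat.card_congr (MonoidHom.ofInjective Φ.inj).toEquiv.symm,
    ← card_evenCent_ptB]
  exact Nat.card_le_card_of_surjective _ Φ.ψB.rangeRestrict_surjective

theorem isF_exists (p : Fin 306936) : ∃ Y, IsF Φ F p Y := by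
  obtain ⟨w, hw, he⟩ := orbit_spec F p
  suffices ∃ Y, IsF Φ F (root p) Y by
    obtain ⟨Y, hY⟩ := this
    exact ⟨_, he ▸ isF_act Φ F (smallGp_le hw).1 hY⟩
  have hh : ∀ g ∈ hWord, g < 12 := by decide +kernel
  have far : ∀ i < 6, ∃ Y, IsF Φ F (pt (farWords.getD i (0, [])).1) Y := fun i hi => by
    obtain ⟨g, hg, e⟩ := exists_listed F hi
    exact ⟨_, isFB_listed Φ F hi g hg e⟩
  have sm : ∀ x ∈ evenCent 0, ∀ q, F.act x (pt 12) = q → ∃ Y, IsF Φ F q Y :=
    fun x hx q e => ⟨_, Or.inr ⟨x, hx, Or.inl ⟨e, rfl⟩⟩⟩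
  rw [root]
  have hr := (pointOK_spec p.2).1
  generalize rootOf p.1 = r at hr ⊢
  interval_cases r
  · exact ⟨_, Or.inl ⟨rfl, rfl⟩⟩
  · exact far 0 (by omega)
  · exact far 1 (by omega)
  · exact sm 1 (one_mem _) _ (act_one F _)
  · refine sm (val hWord.reverse) (val_mem (by omega) (by decide +kernel)) _ ?_
    exact act_val_pt F (fun g hg => hh g (List.mem_reverse.1 hg)) (by omega) (by decide +kernel)
      (by decide +kernel)
  · exact sm hel hel_mem.1 _ (act_val_pt F hh (by omega) (by decide +kernel) (by decide +kernel))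
  · refine sm (val g0Word) (val_mem (by omega) (by decide +kernel)) _ ?_
    exact act_val_pt F (by decide +kernel) (by omega) (by decide +kernel) (by decide +kernel)
  · exact far 2 (by omega)
  · exact far 3 (by omega)
  · exact far 4 (by omega)

/-- The subgroups follow `l k`. -/
theorem isF_lk {p : Fin 306936} {Y : Subgroup G} (h : IsF Φ F p Y) :
    IsF Φ F (F.act lk p) (conjSg (uEl Φ) Y) := by
  have move : ∀ x ∈ evenCent₂ 0 2, ∀ q Y, IsF Φ F (F.act lk q) (conjSg (uEl Φ) Y) →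
      IsF Φ F (F.act lk (F.act x q)) (conjSg (uEl Φ) (conjSg (p0 Φ x) Y)) := by
    intro x hx q Y hY
    have := isF_act Φ F hx.1 hY
    rwa [← act_mul F, commute_lk F hx.1 hx.2, act_mul F, conjSg_mul, ← (commute_u Φ F hx).eq, ← conjSg_mul] at this
  obtain ⟨w, hw, he⟩ := orbit_spec F p
  have hw' := smallGp_le hw
  suffices hroot : ∃ Y, IsF Φ F (root p) Y ∧ IsF Φ F (F.act lk (root p)) (conjSg (uEl Φ) Y) by
    obtain ⟨Yr, h1, h2⟩ := hroot
    have h1' := isF_act Φ F hw'.1 h1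
    rw [he] at h1'
    rw [isF_unique Φ F h h1', ← he]
    exact move w hw' _ _ h2
  have hh : ∀ g ∈ hWord, g < 12 := by decide +kernel
  have sm : ∀ x ∈ evenCent₂ 0 2, ∀ q, F.act x (pt 12) = q →
      ∃ Y, IsF Φ F q Y ∧ IsF Φ F (F.act lk q) (conjSg (uEl Φ) Y) := by
    rintro x hx _ rfl
    refine ⟨conjSg (p0 Φ x) (YB Φ), Or.inr ⟨x, hx.1, Or.inl ⟨rfl, rfl⟩⟩, move x hx _ _ ?_⟩
    rw [act_lit F (p := 12) (by omega) lk_memB, uEl, conjSg_self (pB_mem_YB Φ lk_memB)]
    exact Or.inr ⟨1, one_mem _, Or.inl ⟨act_one F _, by rw [p0_one, conjSg_one]⟩⟩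
  have wide : ∀ q q' : Fin 306936, F.act lk q = q' → IsFB Φ F q → IsFB Φ F q' →
      (∃ g ∈ evenCent ptB, F.act g (pt 0) = q) →
      ∃ Y, IsF Φ F q Y ∧ IsF Φ F (F.act lk q) (conjSg (uEl Φ) Y) := by
    rintro q q' e hq hq' ⟨g, hg, eg⟩
    refine ⟨_, hq g hg eg, ?_⟩
    rw [conjSg_mul, uEl, ← pB_mul Φ lk_memB hg, e]
    exact hq' _ (mul_mem lk_memB hg) (by rw [act_mul F, eg, e])
  rw [root]
  have hr := (pointOK_spec p.2).1
  generalize rootOf p.1 = r at hr ⊢
  interval_cases r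
  · exact wide _ (pt 2) (act_lk F (by decide +kernel) (by omega) (by decide +kernel)) (isFB_zero Φ F)
      (isFB_listed Φ F (i := 1) (by omega)) ⟨1, one_mem _, act_one F _⟩
  · exact wide _ (pt 0) (act_lk F (by decide +kernel) (by omega) (by decide +kernel))
      (isFB_listed Φ F (i := 0) (by omega)) (isFB_zero Φ F) (exists_listed F (i := 0) (by omega))
  · exact wide _ (pt 1) (act_lk F (by decide +kernel) (by omega) (by decide +kernel))
      (isFB_listed Φ F (i := 1) (by omega)) (isFB_listed Φ F (i := 0) (by omega))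
      (exists_listed F (i := 1) (by omega))
  · exact sm 1 (one_mem _) _ (act_one F _)
  · refine sm (val hWord.reverse) ⟨val_mem (by omega) (by decide +kernel),
      val_mem (by omega) (by decide +kernel)⟩ _ ?_
    exact act_val_pt F (fun g hg => hh g (List.mem_reverse.1 hg)) (by omega) (by decide +kernel)
      (by decide +kernel)
  · exact sm hel hel_mem _ (act_val_pt F hh (by omega) (by decide +kernel) (by decide +kernel))
  · exact wide _ (pt 147) (act_lk F (by decide +kernel) (by omega) (by decide +kernel)) (isFB_A Φ F)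
      (isFB_listed Φ F (i := 2) (by omega))
      ⟨val gWord, val_mem (by decide) (by decide +kernel),
        act_val_pt F (by decide +kernel) (by omega) (by decide +kernel) (by decide +kernel)⟩
  · exact wide _ (pt 112) (act_lk F (by decide +kernel) (by omega) (by decide +kernel))
      (isFB_listed Φ F (i := 2) (by omega)) (isFB_listed Φ F (i := 3) (by omega))
      (exists_listed F (i := 2) (by omega))
  · exact wide _ (pt 169) (act_lk F (by decide +kernel) (by omega) (by decide +kernel))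
      (isFB_listed Φ F (i := 3) (by omega)) (isFB_A Φ F) (exists_listed F (i := 3) (by omega))
  · exact wide _ (pt 1286) (act_lk F (by decide +kernel) (by omega) (by decide +kernel))
      (isFB_listed Φ F (i := 4) (by omega)) (isFB_listed Φ F (i := 5) (by omega))
      (exists_listed F (i := 4) (by omega))

end Cfsg.Agent.Lib.Fi24Recog91
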