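import Cfsg.Agent.Lib.Fi24Recog91.FMap
import Cfsg.Agent.S2080

/-!
The pairs generated by the values on generators form the graph of an embedding of Fi24', as the second entry
over the identity normalises the subgroup of each point and Fi23 has no outer automorphism.
-/

set_option autoImplicit false
set_option maxRecDepth 20000
set_option linter.style.haveILetI false

namespace Cfsg.Agent.Lib.Fi24Recog91

open Cfsg.Agent.Lib
open Cfsg.Agent.Lib.Fi24 (table xg)
open Cfsg.Agent.Lib.Fi24.Cert (col19 tget scanT)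
open Cfsg.Agent.Lib.Fi24.Out (OFacts tau val genPts)

attribute [local irreducible] Fi24.table Fi24.tree Fi24.small Fi24.big orb

theorem equiv_Fi23 : Nonempty (↥(evenCent 0) ≃* Cfsg.Spor.Fi23) := by
  obtain ⟨F⟩ := Fi24.nonempty_gFacts
  obtain ⟨O⟩ := Fi24.Out.nonempty_oFacts
  have := F.finite
  obtain ⟨σ, hσ, hker⟩ := F.toFi23
  obtain ⟨-, hc⟩ := Cfsg.Agent.S1697.result
  have he : evenCent 0 = Fi24.H ⊓ commutator M := by rw [evenCent, Fi24.Out.tau_zero, O.centralizer_l]
  let f : ↥(Fi24.H ⊓ commutator M : Subgroup M) →* Cfsg.Spor.Fi23 := σ.comp (Subgroup.inclusion inf_le_left)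
  have hinj : Function.Injective f := by
    rw [← MonoidHom.ker_eq_bot_iff, eq_bot_iff]
    intro x hx
    rw [Subgroup.mem_bot]
    apply Subtype.ext
    rcases hker (Subgroup.inclusion inf_le_left x) hx with h | h
    · exact h
    · exact absurd (show xg 0 ∈ commutator M from h ▸ x.2.2) F.l_not_mem
  have hcard : Nat.card ↥(Fi24.H ⊓ commutator M : Subgroup M) = Nat.card Cfsg.Spor.Fi23 := by
    rw [F.card_inf, hc]
  haveI : Finite Cfsg.Spor.Fi23 := Nat.finite_of_card_ne_zero (by rw [hc]; omega)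
  exact ⟨(MulEquiv.subgroupCongr he).trans (MulEquiv.ofBijective f (hinj.bijective_of_nat_card_le hcard.ge))⟩

theorem simple_evenCent0 : IsSimpleGroup ↥(evenCent 0) := by
  obtain ⟨e⟩ := equiv_Fi23
  haveI : IsSimpleGroup Cfsg.Spor.Fi23 := Cfsg.Agent.S1697.result.1
  exact e.isSimpleGroup

theorem simple_evenCentB : IsSimpleGroup ↥(evenCent ptB) := by
  haveI := simple_evenCent0
  exact ((MulEquiv.subgroupCongr evenCent_ptB_eq).trans
    ((evenCent 0).equivMapOfInjective (MulAut.conj (val sWord)).toMonoidHom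
      (MulAut.conj (val sWord)).injective).symm).isSimpleGroup

theorem aut_inner (φ : MulAut ↥(evenCent 0)) : ∃ s : ↥(evenCent 0), φ = MulAut.conj s := by
  obtain ⟨e⟩ := equiv_Fi23
  have h : Nat.card (MulAut Cfsg.Spor.Fi23 ⧸ Cfsg.Inn Cfsg.Spor.Fi23) = 1 := Cfsg.Agent.S2080.result
  have htop := Subgroup.index_eq_one.1 h
  have hm : (e.symm.trans (φ.trans e) : MulAut Cfsg.Spor.Fi23) ∈ Cfsg.Inn Cfsg.Spor.Fi23 := by
    rw [htop]; exact Subgroup.mem_top _
  obtain ⟨g, hg⟩ := hm
  refine ⟨e.symm g, MulEquiv.ext fun x => ?_⟩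
  have := congrArg (fun ψ : MulAut Cfsg.Spor.Fi23 => e.symm (ψ (e x))) hg
  simpa [MulAut.conj_apply] using this.symm

variable {G : Type*} [Group G] {z : G} (Φ : Frames G z) (F : OFacts)

include F in
theorem la_not_central : ¬ ∀ x ∈ evenCent 0, x * la = la * x := by
  intro h
  have h7 := h (val [0, 7]) (val_mem (by decide) (by decide +kernel))
  rw [la, ← val_append, ← val_append] at h7
  have h3 := F.mv_val ([0, 7] ++ aWord) (by decide +kernel) (pt 258)
  rw [h7, F.mv_val _ (by decide +kernel), pt_val (show 258 < 306936 by omega)] at h3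
  exact absurd h3 (by decide +kernel)

include F in
theorem la_ne_one : la ≠ 1 := fun h => by
  have h1 : F.act la (pt 2) = pt 147 :=
    act_val_pt F (by decide +kernel) (by omega) (by omega) (by decide +kernel)
  rw [h, act_one F] at h1
  exact absurd (congrArg Fin.val h1) (by decide)

include F in
theorem pB_inj {x y : M} (hx : x ∈ evenCent ptB) (hy : y ∈ evenCent ptB) (h : pB Φ x = pB Φ y) : x = y := by
  haveI := simple_evenCentB
  have hinj : Function.Injective Φ.ψB := by
    rw [← MonoidHom.ker_eq_bot_iff]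
    refine (MonoidHom.normal_ker Φ.ψB).eq_bot_or_eq_top.resolve_right fun ht => ?_
    have h1 : Φ.ψB ⟨la, la_memB⟩ = 1 := by rw [← MonoidHom.mem_ker, ht]; trivial
    rw [← pB_of Φ la_memB, ← p0_eq_pB Φ la_mem0 la_memB, ← p0_one Φ] at h1
    exact la_ne_one F (p0_inj Φ la_mem0 (one_mem _) h1)
  rw [pB_of Φ hx, pB_of Φ hy] at h
  exact congrArg Subtype.val (hinj h)

include F in
theorem Y0_ne_YB : Y0 Φ ≠ YB Φ := by
  intro heq
  obtain ⟨s, hs, hsu⟩ := exists_p0 Φ (show uEl Φ ∈ Y0 Φ by rw [heq]; exact pB_mem_YB Φ lk_memB)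
  have hcomm : ∀ x ∈ evenCent₂ 0 2, s * x = x * s := fun x hx => by
    refine p0_inj Φ (mul_mem hs hx.1) (mul_mem hx.1 hs) ?_
    rw [p0_mul Φ hs hx.1, p0_mul Φ hx.1 hs, hsu]
    exact (commute_u Φ F hx).eq
  have hs3 : s * s * s = 1 := by
    refine p0_inj Φ (mul_mem (mul_mem hs hs) hs) (one_mem _) ?_
    rw [p0_mul Φ (mul_mem hs hs) hs, p0_mul Φ hs hs, hsu, p0_one, uEl, ← pB_mul Φ lk_memB lk_memB,
      ← pB_mul Φ (mul_mem lk_memB lk_memB) lk_memB, lk, ← val_append, ← val_append,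
      val_eq F (v := []) (by decide +kernel) (by decide +kernel) (by decide +kernel), val_nil, pB_one]
  have hlk2 : F.act lk (pt 2) = pt 1 := act_lk F (by omega) (by omega) (by decide +kernel)
  have hfix : ∀ q, (q = pt 1 ∨ q = pt 2) → ∀ w ∈ smallGp, F.act w (F.act s q) = F.act s q := by
    intro q hq w hw
    have hw' := smallGp_le hw
    rw [← act_mul F, ← hcomm w hw', act_mul F]
    have h2 : F.act w (pt 2) = pt 2 := act_lit F (by omega) hw'.2
    rcases hq with rfl | rfl
    · rw [← hlk2, ← act_mul F w lk, commute_lk F hw'.1 hw'.2, act_mul F lk w, h2]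
    · rw [h2]
  have himg : ∀ q, (q = pt 1 ∨ q = pt 2) → F.act s q = pt 1 ∨ F.act s q = pt 2 := by
    intro q hq
    rcases fixed_smallGp F _ (hfix q hq) with h | h | h
    · exfalso
      have h0 : F.act s q = F.act s (pt 0) := by
        rw [act0 F hs]; exact Fin.ext h
      have := congrArg Fin.val ((F.act s).injective h0)
      rcases hq with rfl | rfl <;> exact absurd this (by decide)
    · exact Or.inl (Fin.ext h)
    · exact Or.inr (Fin.ext h)
  have hs2 : F.act s (pt 2) = pt 2 := by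
    refine (himg _ (Or.inr rfl)).resolve_left fun h => ?_
    have h1 : F.act s (pt 1) = pt 2 := (himg _ (Or.inl rfl)).resolve_left fun h' => by
      have := congrArg Fin.val ((F.act s).injective (h'.trans h.symm))
      exact absurd this (by decide)
    have h3 := act_one F (pt 2)
    rw [← hs3, act_mul F, act_mul F, h, h1, h] at h3
    exact absurd (congrArg Fin.val h3) (by decide)
  have hs02 : s ∈ evenCent₂ 0 2 := ⟨hs, mem_lit F (by omega) hs2 (evenCent_le _ hs)⟩
  have hgen : ∀ g, g < 2 → s * xg g = xg g * s := fun g hg => by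
    interval_cases g
    · rw [← Fi24.Out.tau_zero]; exact Subgroup.mem_centralizer_singleton_iff.1 hs.1
    · rw [← tau_two F]; exact Subgroup.mem_centralizer_singleton_iff.1 hs02.2.1
  have h12 : ∀ g, g < 2 → tget table (F.act s (pt 12)).1 g = (F.act s (pt 12)).1 := fun g hg => by
    rw [← act_xg F (show g < 12 by omega), ← act_mul F, ← hgen g hg, act_mul F]
    have : F.act (xg g) (pt 12) = pt 12 := Fin.ext (by
      rw [act_xg F (show g < 12 by omega), pt_val (show 12 < 306936 by omega)]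
      exact (show ∀ g < 2, tget table 12 g = 12 by decide +kernel) g hg)
    rw [this]
  have hq := (pointOK_spec (F.act s (pt 12)).2).2.2 (h12 0 (by omega)) (h12 1 (by omega))
  have hs12 : (F.act s (pt 12)).1 = 12 := hq.2 fun g hg => by
    have hw : ∀ g ∈ ([5, 6, 7, 8, 9, 10, 11] : List ℕ), g < 12 ∧ evenOK [3, g] 0 = true ∧
        evenOK [3, g] 2 = true ∧ evenOK [3, g] 12 = true := by decide +kernel
    obtain ⟨hg12, a, b, c⟩ := hw g hg
    have e : val [3, g] * s = s * val [3, g] := (hcomm _ ⟨val_mem (by omega) a, val_mem (by omega) b⟩).symm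
    have h := act_val F (w := [3, g]) (by simpa using hg12) (F.act s (pt 12))
    rw [← act_mul F, e, act_mul F, act_lit F (by omega) (val_mem (by omega) c)] at h
    exact h.symm
  have hsB : s ∈ evenCent ptB := mem_lit F (by decide) (Fin.ext (by
    show (F.act s (pt 12)).1 = (pt 12).1
    rw [hs12, pt_val (show 12 < 306936 by omega)])) (evenCent_le _ hs)
  have e : s = lk := pB_inj Φ F hsB lk_memB (by rw [← p0_eq_pB Φ hs hsB, hsu]; rfl)
  have h0 := act0 F hs
  rw [e, act_lk F (q := 2) (by omega) (by omega) (by decide +kernel)] at h0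
  exact absurd (congrArg Fin.val h0) (by decide)

include F in
/-- An element at 0 whose image normalises the subgroup of every point is trivial. -/
theorem eq_one_of_fixes {s : M} (hs : s ∈ evenCent 0)
    (h : ∀ p Y, IsF Φ F p Y → conjSg (p0 Φ s) Y = Y) : s = 1 := by
  haveI := simple_evenCent0
  let T : Subgroup ↥(evenCent 0) :=
    { carrier := {x | ∀ p Y, IsF Φ F p Y → conjSg (p0 Φ x.1) Y = Y}
      one_mem' := fun p Y _ => by rw [OneMemClass.coe_one, p0_one, conjSg_one]
      mul_mem' := fun {x y} hx hy p Y hY => by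
        rw [Subgroup.coe_mul, p0_mul Φ x.2 y.2, ← conjSg_mul, hy p Y hY, hx p Y hY]
      inv_mem' := fun {x} hx p Y hY => by
        conv_lhs => rw [← hx p Y hY]
        rw [Subgroup.coe_inv, p0_inv Φ x.2, conjSg_mul, inv_mul_cancel, conjSg_one] }
  have hT : T.Normal := ⟨fun n hn x p Y hY => by
    obtain ⟨Z, hZ⟩ := isF_exists Φ F (F.act x.1⁻¹ p)
    have hY' := isF_act Φ F x.2 hZ
    rw [act_self_inv F] at hY'
    rw [isF_unique Φ F hY hY', Subgroup.coe_mul, Subgroup.coe_mul, Subgroup.coe_inv, p0_conj Φ x.2 n.2,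
      conjSg_mul, inv_mul_cancel_right, ← conjSg_mul, hn _ Z hZ]⟩
  rcases hT.eq_bot_or_eq_top with hb | htop
  · have : (⟨s, hs⟩ : ↥(evenCent 0)) ∈ T := h
    rw [hb, Subgroup.mem_bot] at this
    exact congrArg Subtype.val this
  exfalso
  refine Y0_ne_YB Φ F ?_
  have hB : IsF Φ F (pt 12) (YB Φ) := Or.inr ⟨1, one_mem _, Or.inl ⟨act_one F _, by rw [p0_one, conjSg_one]⟩⟩
  set g := val gWord
  have hgB : g ∈ evenCent ptB := val_mem (by decide) (by decide +kernel)
  have hga : F.act g (pt 0) = pt 169 :=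
    act_val_pt F (by decide +kernel) (by omega) (by omega) (by decide +kernel)
  have hg0 : val g0Word ∈ evenCent 0 := val_mem (by omega) (by decide +kernel)
  have h1 := isF_unique Φ F (isFB_A Φ F g hgB hga)
    (Or.inr ⟨val g0Word, hg0, Or.inl ⟨act_val_pt F (by decide +kernel) (by omega) (by omega) (by decide +kernel), rfl⟩⟩)
  have h2 : conjSg (p0 Φ (val g0Word)) (YB Φ) = YB Φ :=
    (show (⟨_, hg0⟩ : ↥(evenCent 0)) ∈ T by rw [htop]; trivial) _ _ hB
  rw [h2] at h1
  have h3 := congrArg (conjSg (pB Φ g)⁻¹) h1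
  rwa [conjSg_mul, inv_mul_cancel, conjSg_one, conjSg_self (inv_mem (pB_mem_YB Φ hgB))] at h3

include F in
/-- An element normalising the subgroup of every point is trivial. -/
theorem eq_one_of_normalises {y : G} (h : ∀ p Y, IsF Φ F p Y → conjSg y Y = Y) : y = 1 := by
  have h0 := h _ _ (Or.inl ⟨rfl, rfl⟩)
  let e : ↥(evenCent 0) ≃* ↥(Y0 Φ) := MonoidHom.ofInjective Φ.inj
  have hmap : (Y0 Φ).map ((MulAut.conj y : G ≃* G) : G →* G) = Y0 Φ := h0
  let c : ↥(Y0 Φ) ≃* ↥(Y0 Φ) :=
    ((Y0 Φ).equivMapOfInjective ((MulAut.conj y : G ≃* G) : G →* G) (MulAut.conj y).injective).trans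
      (MulEquiv.subgroupCongr hmap)
  obtain ⟨s, hs⟩ := aut_inner ((e.trans c).trans e.symm)
  have key : ∀ x : ↥(evenCent 0), y * p0 Φ x.1 * y⁻¹ = p0 Φ s.1 * p0 Φ x.1 * (p0 Φ s.1)⁻¹ := by
    intro x
    have h2 : ((e.trans c).trans e.symm) x = MulAut.conj s x := by rw [hs]
    have h3 : c (e x) = e (s * x * s⁻¹) := by
      rw [← e.apply_symm_apply (c (e x))]
      exact congrArg e h2
    have h4 : y * Φ.ψ₀ x * y⁻¹ = Φ.ψ₀ (s * x * s⁻¹) := congrArg Subtype.val h3
    rw [map_mul, map_mul, map_inv] at h4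
    rw [p0_of Φ x.2, p0_of Φ s.2]
    exact h4
  have hcen : ∀ x ∈ evenCent 0, Commute ((p0 Φ s.1)⁻¹ * y) (p0 Φ x) := fun x hx => by
    have h1 := key ⟨x, hx⟩
    show _ * p0 Φ x = p0 Φ x * _
    calc (p0 Φ s.1)⁻¹ * y * p0 Φ x = (p0 Φ s.1)⁻¹ * (y * p0 Φ x * y⁻¹) * y := by group
      _ = _ := by rw [h1]; group
  have hd : tau 0 * tau ptA ∈ evenCent 0 := by rw [ptA, ← la_eq F]; exact la_mem0
  have hys : (p0 Φ s.1)⁻¹ * y = 1 := by
    refine (Φ.cent_K hd _ ?_ fun x hx => ?_).resolve_right fun hbad => la_not_central F fun x hx => ?_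
    · rw [← p0_of Φ hd]; exact hcen _ hd
    · rw [← p0_of Φ hx.1]; exact hcen x hx.1
    · have h1 := hcen x hx
      rw [hbad, ← p0_of Φ hd, ptA, ← la_eq F, Commute, SemiconjBy, ← p0_mul Φ la_mem0 hx,
        ← p0_mul Φ hx la_mem0] at h1
      exact (p0_inj Φ (mul_mem la_mem0 hx) (mul_mem hx la_mem0) h1).symm
  rw [inv_mul_eq_one] at hys
  rw [← hys, eq_one_of_fixes Φ F s.2 fun p Y hY => by rw [hys]; exact h p Y hY, p0_one]

/-- The values on the generators. -/
def genPairs : Set (M × G) :=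
  {p | ∃ g, 2 ≤ g ∧ g < 12 ∧ p = (xg 0 * xg g, p0 Φ (xg 0 * xg g))} ∪ {(lk, uEl Φ)}

theorem gen_mem0 {g : ℕ} (h2 : 2 ≤ g) (hg : g < 12) : xg 0 * xg g ∈ evenCent 0 := by
  rw [show xg 0 * xg g = val [0, g] by simp [val]]
  exact val_mem (by omega) ((show ∀ g < 12, g < 2 ∨ evenOK [0, g] 0 = true by decide +kernel) g hg |>.resolve_left
    (by omega))

include F in
theorem graph_moves {q : M × G} (hq : q ∈ Subgroup.closure (genPairs Φ)) :
    ∀ p Y, IsF Φ F p Y → IsF Φ F (F.act q.1 p) (conjSg q.2 Y) := by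
  induction hq using Subgroup.closure_induction with
  | mem a ha =>
    intro p Y hY
    rcases ha with ⟨g, h2, hg, rfl⟩ | rfl
    · exact isF_act Φ F (gen_mem0 h2 hg) hY
    · exact isF_lk Φ F hY
  | one => intro p Y hY; rwa [Prod.fst_one, Prod.snd_one, act_one F, conjSg_one]
  | mul a b _ _ ha hb =>
    intro p Y hY
    have := ha _ _ (hb p Y hY)
    rwa [← act_mul F, conjSg_mul] at this
  | inv a _ ha =>
    intro p Y hY
    obtain ⟨Z, hZ⟩ := isF_exists Φ F (F.act a.1⁻¹ p)
    have h1 := ha _ _ hZ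
    rw [act_self_inv F] at h1
    rw [Prod.fst_inv, Prod.snd_inv, isF_unique Φ F hY h1, conjSg_mul, inv_mul_cancel, conjSg_one]
    exact hZ

theorem graph_fst {x : M} (hx : x ∈ commutator M) : ∃ y : G, (x, y) ∈ Subgroup.closure (genPairs Φ) := by
  obtain ⟨F⟩ := Fi24.Out.nonempty_oFacts
  set K := Subgroup.closure {x : M | (∃ g, 2 ≤ g ∧ g < 12 ∧ x = xg 0 * xg g) ∨ x = lk}
  have hl2 : xg 0 * xg 0 = 1 := Fi24.xg_sq (by omega)
  have hl : ∀ g, g < 12 → g ≠ 1 → xg g * xg 0 = xg 0 * xg g := fun g hg hg1 =>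
    F.central _ (Subgroup.subset_closure ⟨g, hg, hg1, rfl⟩)
  have hnorm : ∀ x ∈ K, xg 0 * x * xg 0 ∈ K := by
    intro x hx
    induction hx using Subgroup.closure_induction with
    | mem a ha =>
      rcases ha with ⟨g, h2, hg, rfl⟩ | rfl
      · rw [← mul_assoc, hl2, one_mul, hl g hg (by omega)]
        exact Subgroup.subset_closure (Or.inl ⟨g, h2, hg, rfl⟩)
      · have : xg 0 * lk * xg 0 = lk⁻¹ := by
          rw [lk_eq, mul_inv_rev, Fi24.xg_inv (show 1 < 12 by omega), Fi24.xg_inv (show 0 < 12 by omega),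
            ← mul_assoc, hl2, one_mul]
        rw [this]
        exact inv_mem (Subgroup.subset_closure (Or.inr rfl))
    | one => rw [mul_one, hl2]; exact one_mem _
    | mul a b _ _ ha hb =>
      have := mul_mem ha hb
      rwa [show xg 0 * a * xg 0 * (xg 0 * b * xg 0) = xg 0 * (a * (xg 0 * xg 0) * b) * xg 0 by group, hl2,
        mul_one] at this
    | inv a _ ha =>
      have := inv_mem ha
      rwa [mul_inv_rev, mul_inv_rev, Fi24.xg_inv (show 0 < 12 by omega), ← mul_assoc] at this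
  have key : ∀ y : M, y ∈ K ∨ y * xg 0 ∈ K := by
    intro y
    have hy : y ∈ Subgroup.closure {a : M | ∃ g < 12, xg g = a} := by
      rw [Fi24.gen_closure]; trivial
    induction hy using Subgroup.closure_induction with
    | mem a ha =>
      obtain ⟨g, hg, rfl⟩ := ha
      right
      obtain rfl | rfl | h2 : g = 0 ∨ g = 1 ∨ 2 ≤ g := by omega
      · rw [hl2]; exact one_mem _
      · have : xg 1 * xg 0 = lk⁻¹ := by
          rw [lk_eq, mul_inv_rev, Fi24.xg_inv (show 1 < 12 by omega), Fi24.xg_inv (show 0 < 12 by omega)]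
        rw [this]
        exact inv_mem (Subgroup.subset_closure (Or.inr rfl))
      · rw [hl g hg (by omega)]; exact Subgroup.subset_closure (Or.inl ⟨g, h2, hg, rfl⟩)
    | one => exact Or.inl (one_mem _)
    | mul a b _ _ iha ihb =>
      rcases iha with ha' | ha' <;> rcases ihb with hb' | hb'
      · exact Or.inl (mul_mem ha' hb')
      · right; rw [mul_assoc]; exact mul_mem ha' hb'
      · right
        have h := mul_mem ha' (hnorm b hb')
        rwa [show a * xg 0 * (xg 0 * b * xg 0) = a * (xg 0 * xg 0) * b * xg 0 by group, hl2, mul_one] at h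
      · left
        have h := mul_mem ha' (hnorm _ hb')
        rwa [show a * xg 0 * (xg 0 * (b * xg 0) * xg 0) = a * (xg 0 * xg 0) * b * (xg 0 * xg 0) by group, hl2,
          mul_one, mul_one] at h
    | inv a _ iha =>
      rcases iha with ha' | ha'
      · exact Or.inl (inv_mem ha')
      · right
        have h := hnorm _ (inv_mem ha')
        rwa [mul_inv_rev, Fi24.xg_inv (show 0 < 12 by omega),
          show xg 0 * (xg 0 * a⁻¹) * xg 0 = xg 0 * xg 0 * a⁻¹ * xg 0 by group, hl2, one_mul] at h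
  have hKc : K ≤ commutator M := by
    refine (Subgroup.closure_le _).2 ?_
    rintro _ (⟨g, h2, hg, rfl⟩ | rfl)
    · exact evenCent_le 0 (gen_mem0 h2 hg)
    · exact evenCent_le _ lk_memB
  have hxK : x ∈ K := (key x).resolve_right fun h =>
    xg0_not_mem (by simpa using mul_mem (inv_mem hx) (hKc h))
  have hK : K ≤ (Subgroup.closure (genPairs Φ)).map (MonoidHom.fst M G) := by
    refine (Subgroup.closure_le _).2 ?_
    rintro _ (⟨g, h2, hg, rfl⟩ | rfl)
    · exact ⟨(xg 0 * xg g, p0 Φ (xg 0 * xg g)), Subgroup.subset_closure (Or.inl ⟨g, h2, hg, rfl⟩), rfl⟩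
    · exact ⟨(lk, uEl Φ), Subgroup.subset_closure (Or.inr rfl), rfl⟩
  obtain ⟨⟨a, b⟩, hab, e⟩ := hK hxK
  exact ⟨b, (show a = x from e) ▸ hab⟩

include F in
theorem graph_unique {x : M} {y y' : G} (h : (x, y) ∈ Subgroup.closure (genPairs Φ))
    (h' : (x, y') ∈ Subgroup.closure (genPairs Φ)) : y = y' := by
  have h1 := mul_mem (inv_mem h) h'
  rw [show (x, y)⁻¹ * (x, y') = (1, y⁻¹ * y') by simp] at h1
  refine inv_mul_eq_one.1 (eq_one_of_normalises Φ F fun p Y hY => ?_)
  have h2 := graph_moves Φ F h1 p Y hY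
  rw [act_one F] at h2
  exact isF_unique Φ F h2 hY

include F in
/-- The embedding of Fi24' extending the copy at 0. -/
theorem exists_hom : ∃ f : ↥(commutator M) →* G, Function.Injective f ∧
    ∀ (x : M) (hx : x ∈ evenCent 0) (hx' : x ∈ commutator M), f ⟨x, hx'⟩ = Φ.ψ₀ ⟨x, hx⟩ := by
  choose f hf using fun x : ↥(commutator M) => graph_fst Φ x.2
  let fh : ↥(commutator M) →* G := MonoidHom.mk' f fun a b =>
    graph_unique Φ F (hf (a * b)) (mul_mem (hf a) (hf b))
  have hext : ∀ (x : M) (hx : x ∈ evenCent 0) (hx' : x ∈ commutator M), fh ⟨x, hx'⟩ = Φ.ψ₀ ⟨x, hx⟩ := by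
    intro x hx hx'
    rw [← p0_of Φ hx]
    refine graph_unique Φ F (hf ⟨x, hx'⟩) ?_
    have hgen := gen_evenCent0 hx
    suffices x ∈ evenCent 0 ∧ (x, p0 Φ x) ∈ Subgroup.closure (genPairs Φ) from this.2
    clear hx hx'
    induction hgen using Subgroup.closure_induction with
    | mem a ha =>
      obtain ⟨g, h2, hg, rfl⟩ := ha
      exact ⟨gen_mem0 h2 hg, Subgroup.subset_closure (Or.inl ⟨g, h2, hg, rfl⟩)⟩
    | one => exact ⟨one_mem _, by rw [p0_one]; exact one_mem _⟩
    | mul a b _ _ ha hb => exact ⟨mul_mem ha.1 hb.1, by rw [p0_mul Φ ha.1 hb.1]; exact mul_mem ha.2 hb.2⟩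
    | inv a _ ha => exact ⟨inv_mem ha.1, by rw [p0_inv Φ ha.1]; exact inv_mem ha.2⟩
  refine ⟨fh, ?_, hext⟩
  haveI : IsSimpleGroup ↥(commutator M) := Fi24.nonempty_gFacts.elim fun S => S.simple
  rw [← MonoidHom.ker_eq_bot_iff]
  refine (MonoidHom.normal_ker fh).eq_bot_or_eq_top.resolve_right fun ht => ?_
  have h1 : fh ⟨la, evenCent_le _ la_mem0⟩ = 1 := by rw [← MonoidHom.mem_ker, ht]; trivial
  rw [hext la la_mem0, ← p0_of Φ la_mem0, ← p0_one Φ] at h1
  exact la_ne_one F (p0_inj Φ la_mem0 (one_mem _) h1)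

end Cfsg.Agent.Lib.Fi24Recog91
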