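import Cfsg.Agent.Lib.Fi24Recog91.Model

/-!
The image `u` of `l k` commutes with the image of every even element fixing the first and the third of the
points 0, 1, 2.
-/

set_option autoImplicit false
set_option maxRecDepth 20000

namespace Cfsg.Agent.Lib.Fi24Recog91

open Cfsg.Agent.Lib
open Cfsg.Agent.Lib.Fi24 (table xg)
open Cfsg.Agent.Lib.Fi24.Cert (col19 tget scanT)
open Cfsg.Agent.Lib.Fi24.Out (OFacts tau val genPts)

attribute [local irreducible] Fi24.table Fi24.tree Fi24.small Fi24.big orb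

theorem act_xg (F : OFacts) {g : ℕ} (hg : g < 12) (i : Fin 306936) :
    (F.act (xg g) i).1 = tget table i.1 g := by
  rw [← val_single, act_val F (by simpa using hg), List.reverse_singleton]
  exact CosetEnum.force_eq _ _

theorem tau_two (F : OFacts) : tau 2 = xg 1 := by
  have h := (F.genPts_tau 1 (by omega)).2
  rwa [show genPts.getD 1 0 = 2 by decide +kernel] at h

/-- The element `l k`. -/
noncomputable def lk : M := val [0, 1]

theorem lk_eq : lk = xg 0 * xg 1 := by simp [lk, val]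

theorem lk_memB : lk ∈ evenCent ptB := val_mem (by decide) (by decide +kernel)

theorem lk_memX : lk ∈ evenCent ptX := val_mem (by decide) (by decide +kernel)

/-- The product of the transpositions of 0 and 169. -/
noncomputable def la : M := val aWord

theorem la_eq (F : OFacts) : la = tau 0 * tau 169 := by
  rw [tau_path F (v := aPath) (p := 169) (by decide +kernel) (by decide) (by decide +kernel), Fi24.Out.tau_zero, la,
    aWord, val_cons]

theorem la_mem0 : la ∈ evenCent 0 := val_mem (by decide) (by decide +kernel)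

theorem la_memB : la ∈ evenCent ptB := val_mem (by decide) (by decide +kernel)

theorem la_memX : la ∈ evenCent ptX := val_mem (by decide) (by decide +kernel)

/-- The element turning the three orbits of length 1080. -/
noncomputable def hel : M := val hWord

theorem hel_mem : hel ∈ evenCent₂ 0 2 :=
  ⟨val_mem (by decide) (by decide +kernel), val_mem (by decide) (by decide +kernel)⟩

variable {G : Type*} [Group G] {z : G} (Φ : Frames G z)

open Classical in
/-- The copy at the base point, as a map on all of `M`. -/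
noncomputable def p0 (x : M) : G := if h : x ∈ evenCent 0 then Φ.ψ₀ ⟨x, h⟩ else 1

open Classical in
/-- The copy at 12, as a map on all of `M`. -/
noncomputable def pB (x : M) : G := if h : x ∈ evenCent ptB then Φ.ψB ⟨x, h⟩ else 1

open Classical in
/-- The copy at the third point, as a map on all of `M`. -/
noncomputable def pX (x : M) : G := if h : x ∈ evenCent ptX then Φ.ψX ⟨x, h⟩ else 1

theorem p0_of {x : M} (h : x ∈ evenCent 0) : p0 Φ x = Φ.ψ₀ ⟨x, h⟩ := by rw [p0, dif_pos h]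

theorem pB_of {x : M} (h : x ∈ evenCent ptB) : pB Φ x = Φ.ψB ⟨x, h⟩ := by rw [pB, dif_pos h]

theorem pX_of {x : M} (h : x ∈ evenCent ptX) : pX Φ x = Φ.ψX ⟨x, h⟩ := by rw [pX, dif_pos h]

theorem p0_mul {x y : M} (hx : x ∈ evenCent 0) (hy : y ∈ evenCent 0) : p0 Φ (x * y) = p0 Φ x * p0 Φ y := by
  rw [p0_of Φ hx, p0_of Φ hy, p0_of Φ (mul_mem hx hy), ← map_mul]; rfl

theorem pB_mul {x y : M} (hx : x ∈ evenCent ptB) (hy : y ∈ evenCent ptB) :
    pB Φ (x * y) = pB Φ x * pB Φ y := by
  rw [pB_of Φ hx, pB_of Φ hy, pB_of Φ (mul_mem hx hy), ← map_mul]; rfl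

theorem pX_mul {x y : M} (hx : x ∈ evenCent ptX) (hy : y ∈ evenCent ptX) :
    pX Φ (x * y) = pX Φ x * pX Φ y := by
  rw [pX_of Φ hx, pX_of Φ hy, pX_of Φ (mul_mem hx hy), ← map_mul]; rfl

theorem p0_inv {x : M} (hx : x ∈ evenCent 0) : p0 Φ x⁻¹ = (p0 Φ x)⁻¹ := by
  rw [p0_of Φ hx, p0_of Φ (inv_mem hx), ← map_inv]; rfl

theorem pB_inv {x : M} (hx : x ∈ evenCent ptB) : pB Φ x⁻¹ = (pB Φ x)⁻¹ := by
  rw [pB_of Φ hx, pB_of Φ (inv_mem hx), ← map_inv]; rfl

theorem pX_inv {x : M} (hx : x ∈ evenCent ptX) : pX Φ x⁻¹ = (pX Φ x)⁻¹ := by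
  rw [pX_of Φ hx, pX_of Φ (inv_mem hx), ← map_inv]; rfl

theorem p0_one : p0 Φ 1 = 1 := by rw [p0_of Φ (one_mem _)]; exact map_one Φ.ψ₀

theorem pB_one : pB Φ 1 = 1 := by rw [pB_of Φ (one_mem _)]; exact map_one Φ.ψB

theorem p0_conj {x y : M} (hx : x ∈ evenCent 0) (hy : y ∈ evenCent 0) :
    p0 Φ (x * y * x⁻¹) = p0 Φ x * p0 Φ y * (p0 Φ x)⁻¹ := by
  rw [p0_mul Φ (mul_mem hx hy) (inv_mem hx), p0_mul Φ hx hy, p0_inv Φ hx]

theorem pB_conj {x y : M} (hx : x ∈ evenCent ptB) (hy : y ∈ evenCent ptB) :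
    pB Φ (x * y * x⁻¹) = pB Φ x * pB Φ y * (pB Φ x)⁻¹ := by
  rw [pB_mul Φ (mul_mem hx hy) (inv_mem hx), pB_mul Φ hx hy, pB_inv Φ hx]

theorem pX_conj {x y : M} (hx : x ∈ evenCent ptX) (hy : y ∈ evenCent ptX) :
    pX Φ (x * y * x⁻¹) = pX Φ x * pX Φ y * (pX Φ x)⁻¹ := by
  rw [pX_mul Φ (mul_mem hx hy) (inv_mem hx), pX_mul Φ hx hy, pX_inv Φ hx]

theorem p0_inj {x y : M} (hx : x ∈ evenCent 0) (hy : y ∈ evenCent 0) (h : p0 Φ x = p0 Φ y) : x = y := by
  rw [p0_of Φ hx, p0_of Φ hy] at h
  exact congrArg Subtype.val (Φ.inj h)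

theorem p0_eq_pB {x : M} (h : x ∈ evenCent 0) (h' : x ∈ evenCent ptB) : p0 Φ x = pB Φ x := by
  rw [p0_of Φ h, pB_of Φ h']; exact Φ.agreeB x h h'

theorem p0_eq_pX {x : M} (h : x ∈ evenCent 0) (h' : x ∈ evenCent ptX) : p0 Φ x = pX Φ x := by
  rw [p0_of Φ h, pX_of Φ h']; exact Φ.agreeX x h h'

/-- The image of `l k`. -/
noncomputable def uEl : G := pB Φ lk

theorem uEl_eq_X : uEl Φ = pX Φ lk := by
  rw [uEl, pB_of Φ lk_memB, pX_of Φ lk_memX]; exact Φ.agreeBX lk lk_memB lk_memX

/-- The even elements fixing 0 whose image commutes with `c`. -/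
def commGp (c : G) : Subgroup M where
  carrier := {x | x ∈ evenCent 0 ∧ Commute c (p0 Φ x)}
  one_mem' := ⟨one_mem _, by rw [p0_one]; exact Commute.one_right c⟩
  mul_mem' := fun {x y} hx hy => ⟨mul_mem hx.1 hy.1, by rw [p0_mul Φ hx.1 hy.1]; exact hx.2.mul_right hy.2⟩
  inv_mem' := fun {x} hx => ⟨inv_mem hx.1, by rw [p0_inv Φ hx.1]; exact hx.2.inv_right⟩

theorem mem_commGp {c : G} {x : M} : x ∈ commGp Φ c ↔ x ∈ evenCent 0 ∧ Commute c (p0 Φ x) := Iff.rfl

variable (F : OFacts)
include F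

theorem commute_lk {x : M} (h0 : x ∈ evenCent 0) (h2 : x ∈ evenCent 2) : x * lk = lk * x := by
  have a : x * tau 0 = tau 0 * x := Subgroup.mem_centralizer_singleton_iff.1 h0.1
  have b : x * tau 2 = tau 2 * x := Subgroup.mem_centralizer_singleton_iff.1 h2.1
  rw [Fi24.Out.tau_zero] at a
  rw [tau_two F] at b
  rw [lk_eq, ← mul_assoc, a, mul_assoc, b, ← mul_assoc]

theorem commute_u_B {x : M} (h0 : x ∈ evenCent 0) (h2 : x ∈ evenCent 2) (hB : x ∈ evenCent ptB) :
    x ∈ commGp Φ (uEl Φ) := by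
  refine ⟨h0, ?_⟩
  rw [Commute, SemiconjBy, p0_eq_pB Φ h0 hB, uEl, ← pB_mul Φ lk_memB hB, ← pB_mul Φ hB lk_memB,
    commute_lk F h0 h2]

theorem commute_u_X {x : M} (h0 : x ∈ evenCent 0) (h2 : x ∈ evenCent 2) (hX : x ∈ evenCent ptX) :
    x ∈ commGp Φ (uEl Φ) := by
  refine ⟨h0, ?_⟩
  rw [Commute, SemiconjBy, p0_eq_pX Φ h0 hX, uEl_eq_X, ← pX_mul Φ lk_memX hX, ← pX_mul Φ hX lk_memX,
    commute_lk F h0 h2]

theorem smallGp_comm : smallGp ≤ commGp Φ (uEl Φ) := by
  refine (Subgroup.closure_le _).2 ?_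
  rintro _ ⟨k, hk, rfl⟩
  have hle := smallGp_le (val_gen_mem hk)
  have h : ∀ k < 9, evenOK (gens.getD k []) ptB = true ∨ evenOK (gens.getD k []) ptX = true := by
    decide +kernel
  rcases h k hk with h | h
  · exact commute_u_B Φ F hle.1 hle.2 (val_mem (by decide) h)
  · exact commute_u_X Φ F hle.1 hle.2 (val_mem (by decide) h)

/-- An element fixing 0 and 2 is known as soon as one with the same root is. -/
theorem commute_u_of_root {x v : M} (hx : x ∈ evenCent₂ 0 2) (hv : v ∈ evenCent₂ 0 2)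
    (hvc : v ∈ commGp Φ (uEl Φ)) (h : F.act v (pt 12) = root (F.act x (pt 12))) :
    x ∈ commGp Φ (uEl Φ) := by
  obtain ⟨w, hw, he⟩ := orbit_spec F (F.act x (pt 12))
  have hm : w * v ∈ evenCent₂ 0 2 := mul_mem (smallGp_le hw) hv
  have hmc : w * v ∈ commGp Φ (uEl Φ) := mul_mem (smallGp_comm Φ F hw) hvc
  have hz : (w * v)⁻¹ * x ∈ evenCent₂ 0 2 := mul_mem (inv_mem hm) hx
  have hzB : (w * v)⁻¹ * x ∈ evenCent (pt 12).1 := by
    refine (mem_evenCent_iff F _ _).2 ⟨?_, evenCent_le 0 hz.1⟩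
    have e : F.act (w * v) (pt 12) = F.act x (pt 12) := by rw [act_mul F, h, he]
    rw [act_mul F, ← e, act_inv_self F]
  rw [pt_val (show 12 < 306936 by omega)] at hzB
  have h3 := mul_mem hmc (commute_u_B Φ F hz.1 hz.2 hzB)
  rwa [mul_inv_cancel_left] at h3

omit F in
theorem gen_evenCent0 :
    evenCent 0 ≤ Subgroup.closure {x | ∃ g, 2 ≤ g ∧ g < 12 ∧ x = xg 0 * xg g} := by
  obtain ⟨F⟩ := Fi24.Out.nonempty_oFacts
  set K := Subgroup.closure {x : M | ∃ g, 2 ≤ g ∧ g < 12 ∧ x = xg 0 * xg g}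
  have hl : ∀ g, g < 12 → g ≠ 1 → xg g * xg 0 = xg 0 * xg g := fun g hg hg1 =>
    F.central _ (Subgroup.subset_closure ⟨g, hg, hg1, rfl⟩)
  have hl2 : xg 0 * xg 0 = 1 := Fi24.xg_sq (by omega)
  have hKH : K ≤ Fi24.H := by
    refine (Subgroup.closure_le _).2 ?_
    rintro _ ⟨g, h2, hg, rfl⟩
    exact mul_mem (Subgroup.subset_closure ⟨0, by omega, by omega, rfl⟩)
      (Subgroup.subset_closure ⟨g, hg, by omega, rfl⟩)
  have key : ∀ x ∈ Fi24.H, x ∈ K ∨ x * xg 0 ∈ K := by
    intro x hx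
    induction hx using Subgroup.closure_induction with
    | mem a ha =>
      obtain ⟨g, hg, hg1, rfl⟩ := ha
      right
      rcases Nat.eq_zero_or_pos g with rfl | hpos
      · rw [hl2]; exact one_mem _
      · rw [hl g hg hg1]; exact Subgroup.subset_closure ⟨g, by omega, hg, rfl⟩
    | one => exact Or.inl (one_mem _)
    | mul a b ha hb iha ihb =>
      rcases iha with ha' | ha' <;> rcases ihb with hb' | hb'
      · exact Or.inl (mul_mem ha' hb')
      · right; rw [mul_assoc]; exact mul_mem ha' hb'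
      · right
        rw [mul_assoc, F.central b hb, ← mul_assoc]
        exact mul_mem ha' hb'
      · left
        have h := mul_mem ha' hb'
        rwa [mul_assoc a, ← mul_assoc (xg 0) b, ← F.central b hb, mul_assoc b, hl2, mul_one] at h
    | inv a ha iha =>
      rcases iha with ha' | ha'
      · exact Or.inl (inv_mem ha')
      · right
        have h := inv_mem ha'
        rwa [mul_inv_rev, Fi24.xg_inv (by omega), ← F.central _ (inv_mem ha)] at h
  intro x hx
  have hxH : x ∈ Fi24.H := by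
    rw [← F.centralizer_l, ← Fi24.Out.tau_zero]; exact hx.1
  rcases key x hxH with h | h
  · exact h
  · exfalso
    have hK : K ≤ commutator M := by
      refine (Subgroup.closure_le _).2 ?_
      rintro _ ⟨g, h2, hg, rfl⟩
      rw [SetLike.mem_coe, mem_commutator_iff,
        show xg 0 * xg g = val [0, g] by simp [val], parity_one]
      simp
    exact xg0_not_mem (by simpa using mul_mem (inv_mem (evenCent_le 0 hx)) (hK h))

/-- An element commuting with the image of the product of 0 and 169 and with the small group commutes with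
everything at 0. -/
theorem commute_all {c : G} (hla : la ∈ commGp Φ c) (hs : smallGp ≤ commGp Φ c) :
    evenCent 0 ≤ commGp Φ c := by
  have horb : ∀ q : Fin 306936, rootOf q.1 = 6 → tau 0 * tau q.1 ∈ commGp Φ c := by
    intro q hq
    obtain ⟨w, hw, he⟩ := orbit_spec F q
    have hr : root q = pt 169 := by rw [root, hq]; rfl
    rw [hr] at he
    have h := mul_mem (mul_mem (hs hw) hla) (inv_mem (hs hw))
    have h0 : F.act w (pt 0) = pt 0 := by
      have := (mem_evenCent_iff F w (pt 0)).1 (by rw [pt_val (show 0 < 306936 by omega)]; exact (smallGp_le hw).1)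
      exact this.1
    have e : w * la * w⁻¹ = tau 0 * tau q.1 := by
      have a := tau_act F w (pt 0)
      have b := tau_act F w (pt 169)
      rw [h0, pt_val (show 0 < 306936 by omega)] at a
      rw [he, pt_val (show 169 < 306936 by omega)] at b
      rw [la_eq F, show w * (tau 0 * tau 169) * w⁻¹ = w * tau 0 * w⁻¹ * (w * tau 169 * w⁻¹) by group, a, b]
    rwa [e] at h
  refine le_trans gen_evenCent0 ((Subgroup.closure_le _).2 ?_)
  rintro _ ⟨g, h2, hg, rfl⟩
  have tri : ∀ k < 10, (triPts.getD k (0, 0)).1 < 306936 ∧ (triPts.getD k (0, 0)).2 < 306936 ∧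
      rootOf (triPts.getD k (0, 0)).1 = 6 ∧ rootOf (triPts.getD k (0, 0)).2 = 6 ∧
      (∀ x ∈ triPaths.getD k [], x < 12) ∧ scanT table (triPaths.getD k []) 0 = (triPts.getD k (0, 0)).1 ∧
      (∀ x ∈ (triPaths.getD k []).reverse ++ 0 :: triPaths.getD k [], x < 12) ∧
      scanT table ((triPaths.getD k []).reverse ++ 0 :: triPaths.getD k []).reverse (triPts.getD k (0, 0)).2 =
        genPts.getD (k + 2) 0 := by decide +kernel
  obtain ⟨ha, hb, ra, rb, hv, hva, hw, hwb⟩ := tri (g - 2) (by omega)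
  rw [show g - 2 + 2 = g by omega] at hwb
  set a : Fin 306936 := ⟨(triPts.getD (g - 2) (0, 0)).1, ha⟩
  set b : Fin 306936 := ⟨(triPts.getD (g - 2) (0, 0)).2, hb⟩
  have hA := horb a ra
  have hB := horb b rb
  obtain ⟨hgp, htg⟩ := F.genPts_tau g hg
  have hab : F.act (tau a.1) b = ⟨_, hgp⟩ := Fin.ext (by
    show (F.act (tau (triPts.getD (g - 2) (0, 0)).1) b).1 = _
    rw [tau_path F hv ha hva, act_val F hw]
    exact hwb)
  have hg' := tau_act F (tau a.1) b
  rw [hab, htg, inv_eq_of_mul_eq_one_right (Fi24.Out.tau_sq a.1)] at hg'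
  have comm : ∀ q : Fin 306936, tau 0 * tau q.1 ∈ commGp Φ c → tau q.1 * tau 0 = tau 0 * tau q.1 := by
    intro q hq
    have h := Subgroup.mem_centralizer_singleton_iff.1 hq.1.1
    rw [mul_assoc] at h
    exact mul_left_cancel h
  have hl2 : tau 0 * tau 0 = 1 := Fi24.Out.tau_sq 0
  have e : tau 0 * xg g = tau 0 * tau a.1 * (tau 0 * tau b.1) * (tau 0 * tau a.1) := by
    rw [← hg']
    calc tau 0 * (tau a.1 * tau b.1 * tau a.1) = tau 0 * tau a.1 * tau b.1 * (tau 0 * tau 0) * tau a.1 := by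
          rw [hl2, mul_one]; group
      _ = tau 0 * tau a.1 * (tau b.1 * tau 0) * (tau 0 * tau a.1) := by group
      _ = _ := by rw [comm b hB]
  rw [SetLike.mem_coe, ← Fi24.Out.tau_zero, e]
  exact mul_mem (mul_mem hA hB) hA

/-- The element turning the three orbits is known. -/
theorem hel_comm : hel ∈ commGp Φ (uEl Φ) := by
  refine ⟨hel_mem.1, ?_⟩
  set a := p0 Φ hel
  set e := p0 Φ la
  set u := uEl Φ
  have htl : ∀ g ∈ tWord, g < 12 := by decide +kernel
  have ht : val tWord = lk * la * lk⁻¹ := by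
    rw [tWord, val_append, val_append, show ([1, 0] : List ℕ) = [0, 1].reverse from rfl,
      val_reverse [0, 1] (by simp)]
    rfl
  set t := val tWord
  have htB : t ∈ evenCent ptB := by rw [ht]; exact mul_mem (mul_mem lk_memB la_memB) (inv_mem lk_memB)
  have htX : t ∈ evenCent ptX := by rw [ht]; exact mul_mem (mul_mem lk_memX la_memX) (inv_mem lk_memX)
  have hy : u * e * u⁻¹ = pB Φ t := by
    rw [ht, pB_conj Φ lk_memB la_memB, ← p0_eq_pB Φ la_mem0 la_memB]; rfl
  have hy' : u * e * u⁻¹ = pX Φ t := by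
    rw [ht, pX_conj Φ lk_memX la_memX, ← p0_eq_pX Φ la_mem0 la_memX, ← uEl_eq_X]
  have parts : ∀ f ∈ hParts, (∀ g ∈ f, g < 12) ∧ evenOK f 0 = true ∧
      (evenOK f ptB = true ∨ evenOK f ptX = true) ∧ evenOK (tWord ++ f ++ tWord.reverse) 0 = true := by
    decide +kernel
  have key : ∀ L : List (List ℕ), (∀ f ∈ L, f ∈ hParts) → val L.flatten ∈ evenCent 0 ∧
      t * val L.flatten * t⁻¹ ∈ evenCent 0 ∧
      u * e * u⁻¹ * p0 Φ (val L.flatten) * (u * e * u⁻¹)⁻¹ = p0 Φ (t * val L.flatten * t⁻¹) := by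
    intro L
    induction L with
    | nil =>
      intro _
      rw [List.flatten_nil, val_nil, mul_one t, mul_inv_cancel]
      exact ⟨one_mem _, one_mem _, by rw [p0_one, mul_one, mul_inv_cancel]⟩
    | cons f L ih =>
      intro hL
      obtain ⟨i1, i2, i3⟩ := ih fun x hx => hL x (List.mem_cons_of_mem _ hx)
      obtain ⟨hf, h0, hBX, hc0⟩ := parts f (hL f List.mem_cons_self)
      have f0 : val f ∈ evenCent 0 := val_mem (by decide) h0
      have c0 : t * val f * t⁻¹ ∈ evenCent 0 := by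
        have h := val_mem (by decide) hc0
        rwa [val_append, val_append, val_reverse tWord htl] at h
      have one : u * e * u⁻¹ * p0 Φ (val f) * (u * e * u⁻¹)⁻¹ = p0 Φ (t * val f * t⁻¹) := by
        rcases hBX with h | h
        · have fB := val_mem (by decide) h
          rw [hy, p0_eq_pB Φ f0 fB, ← pB_conj Φ htB fB,
            p0_eq_pB Φ c0 (mul_mem (mul_mem htB fB) (inv_mem htB))]
        · have fX := val_mem (by decide) h
          rw [hy', p0_eq_pX Φ f0 fX, ← pX_conj Φ htX fX,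
            p0_eq_pX Φ c0 (mul_mem (mul_mem htX fX) (inv_mem htX))]
      rw [List.flatten_cons, val_append,
        show t * (val f * val L.flatten) * t⁻¹ = t * val f * t⁻¹ * (t * val L.flatten * t⁻¹) by group]
      refine ⟨mul_mem f0 i1, mul_mem c0 i2, ?_⟩
      rw [p0_mul Φ f0 i1, p0_mul Φ c0 i2, ← one, ← i3]
      group
  have hth : t * hel * t⁻¹ = hel := by
    rw [hel, ← val_reverse tWord htl, ← val_append, ← val_append]
    exact val_eq F (by decide +kernel) (by decide +kernel) (by decide +kernel)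
  have hya : Commute (u * e * u⁻¹) a := by
    have h := (key hParts fun f hf => hf).2.2
    rw [show val hParts.flatten = hel from rfl, hth] at h
    exact mul_inv_eq_iff_eq_mul.1 h
  have hha : hel * la * hel⁻¹ = la := by
    rw [hel, la, ← val_reverse hWord (by decide +kernel), ← val_append, ← val_append]
    exact val_eq F (by decide +kernel) (by decide +kernel) (by decide +kernel)
  have hea : Commute a e := by
    have h := p0_conj Φ hel_mem.1 la_mem0
    rw [hha] at h
    exact mul_inv_eq_iff_eq_mul.1 h.symm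
  have hce : Commute (u⁻¹ * a⁻¹ * u * a) e := by
    show _ * e = e * _
    calc u⁻¹ * a⁻¹ * u * a * e = u⁻¹ * a⁻¹ * (u * e * u⁻¹) * u * a := by rw [mul_assoc _ a e, hea.eq]; group
      _ = u⁻¹ * (u * e * u⁻¹) * a⁻¹ * u * a := by rw [mul_assoc u⁻¹ a⁻¹, (hya.inv_right.eq).symm]; group
      _ = e * (u⁻¹ * a⁻¹ * u * a) := by group
  have hcs : smallGp ≤ commGp Φ (u⁻¹ * a⁻¹ * u * a) := by
    refine (Subgroup.closure_le _).2 ?_
    rintro _ ⟨k, hk, rfl⟩
    set g := val (gens.getD k [])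
    have hg : g ∈ evenCent₂ 0 2 := smallGp_le (val_gen_mem hk)
    have hgu : Commute u (p0 Φ g) := (smallGp_comm Φ F (val_gen_mem hk)).2
    have hx : hel * g * hel⁻¹ ∈ evenCent₂ 0 2 := mul_mem (mul_mem hel_mem hg) (inv_mem hel_mem)
    have hxu : Commute u (a * p0 Φ g * a⁻¹) := by
      rw [← p0_conj Φ hel_mem.1 hg.1]
      refine (commute_u_of_root Φ F hx (one_mem _) (one_mem _) ?_).2
      rw [act_one F]
      have hr : ∀ k < 9, (∀ x ∈ hWord ++ gens.getD k [] ++ hWord.reverse, x < 12) ∧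
          rootOf (scanT table (hWord ++ gens.getD k [] ++ hWord.reverse).reverse 12) = 3 := by decide +kernel
      obtain ⟨hl, hroot⟩ := hr k hk
      have e : hel * g * hel⁻¹ = val (hWord ++ gens.getD k [] ++ hWord.reverse) := by
        rw [val_append, val_append, val_reverse hWord (by decide +kernel)]; rfl
      rw [root, e, act_val F hl, pt_val (show 12 < 306936 by omega), hroot]
      rfl
    refine ⟨hg.1, ?_⟩
    show _ * p0 Φ g = p0 Φ g * _
    calc u⁻¹ * a⁻¹ * u * a * p0 Φ g = u⁻¹ * a⁻¹ * (u * (a * p0 Φ g * a⁻¹)) * a := by group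
      _ = u⁻¹ * p0 Φ g * a⁻¹ * u * a := by rw [hxu.eq]; group
      _ = _ := by rw [(hgu.inv_left.eq)]; group
  have hall := commute_all Φ F (c := u⁻¹ * a⁻¹ * u * a) ⟨la_mem0, hce⟩ hcs
  have hd : tau 0 * tau ptA ∈ evenCent 0 := by rw [ptA, ← la_eq F]; exact la_mem0
  have hed : e = Φ.ψ₀ ⟨_, hd⟩ := by
    show p0 Φ la = _
    rw [← p0_of Φ hd, ptA, ← la_eq F]
  have hc1 : u⁻¹ * a⁻¹ * u * a = 1 := by
    refine (Φ.cent_K hd _ (hed ▸ hce) fun x hx => ?_).resolve_right fun h => ?_
    · rw [← p0_of Φ hx.1]; exact (hall hx.1).2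
    · have h7 : val [0, 7] ∈ evenCent 0 := val_mem (by decide) (by decide +kernel)
      have h1 := (hall h7).2
      rw [h, ← hed, Commute, SemiconjBy, ← p0_mul Φ la_mem0 h7, ← p0_mul Φ h7 la_mem0] at h1
      have h2 := p0_inj Φ (mul_mem la_mem0 h7) (mul_mem h7 la_mem0) h1
      rw [la, ← val_append, ← val_append] at h2
      have h3 := F.mv_val (aWord ++ [0, 7]) (by decide +kernel) (pt 258)
      rw [h2, F.mv_val _ (by decide +kernel), pt_val (show 258 < 306936 by omega)] at h3
      exact absurd h3 (by decide +kernel)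
  show u * a = a * u
  calc u * a = a * u * (u⁻¹ * a⁻¹ * u * a) := by group
    _ = _ := by rw [hc1, mul_one]

/-- `u` commutes with the image of the even elements fixing 0 and 2. -/
theorem commute_u {x : M} (hx : x ∈ evenCent₂ 0 2) : Commute (uEl Φ) (p0 Φ x) := by
  set p := F.act x (pt 12)
  have hxl : x * xg 0 = xg 0 * x := by
    rw [← Fi24.Out.tau_zero]; exact Subgroup.mem_centralizer_singleton_iff.1 hx.1.1
  have hxk : x * xg 1 = xg 1 * x := by
    rw [← tau_two F]; exact Subgroup.mem_centralizer_singleton_iff.1 hx.2.1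
  have hfix : ∀ g, g < 2 → x * xg g = xg g * x → tget table p.1 g = p.1 := by
    intro g hg hc
    rw [← act_xg F (show g < 12 by omega), ← act_mul F, ← hc, act_mul F]
    have : F.act (xg g) (pt 12) = pt 12 := Fin.ext (by
      rw [act_xg F (show g < 12 by omega), pt_val (show 12 < 306936 by omega)]
      exact (show ∀ g < 2, tget table 12 g = 12 by decide +kernel) g hg)
    rw [this]
  obtain ⟨⟨h2, h6⟩, -⟩ := (pointOK_spec p.2).2.2 (hfix 0 (by omega) hxl) (hfix 1 (by omega) hxk)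
  have hh : ∀ g ∈ hWord, g < 12 := by decide +kernel
  obtain h | h | h : rootOf p.1 = 3 ∨ rootOf p.1 = 4 ∨ rootOf p.1 = 5 := by omega
  · refine (commute_u_of_root Φ F hx (one_mem _) (one_mem _) ?_).2
    rw [act_one F, root, h]; rfl
  · refine (commute_u_of_root Φ F hx (inv_mem hel_mem) (inv_mem (hel_comm Φ F)) ?_).2
    rw [root, h, hel, ← val_reverse hWord hh]
    exact act_val_pt F (fun g hg => hh g (List.mem_reverse.1 hg)) (by omega) (by decide +kernel)
      (by decide +kernel)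
  · refine (commute_u_of_root Φ F hx hel_mem (hel_comm Φ F) ?_).2
    rw [root, h, hel]
    exact act_val_pt F hh (by omega) (by decide +kernel) (by decide +kernel)

end Cfsg.Agent.Lib.Fi24Recog91
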