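import Cfsg.Agent.Lib.Fi24Recog91.Surj
import Cfsg.Agent.Lib.Fi24Recog91.CardC
import Cfsg.Agent.Lib.Fi24Recog30.Build
import Cfsg.Prelude.Def_Spor_Fi24

/-!
A group of large Fischer type is Fi24', given the centraliser of a pair of transpositions.
-/

set_option autoImplicit false

namespace Cfsg.Agent.Lib.Fi24Recog91

open Cfsg.Agent.Lib

universe u

theorem iso_of_large {G : Type u} [Group G] [Finite G] {z : G}
    {Q : Subgroup (Subgroup.centralizer ({z} : Set G))} [Q.Normal] (hF : Cfsg.IsOfLargeFischerTypeAt z Q)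
    (h5450 : FischerLarge75.PairCentraliser.{u}) : Cfsg.Spor.IsoFi24' G :=
  (Fi24Recog30.exists_frames hF h5450).elim fun Φ => iso_of_frames hF.1.1 (card_cent_of_type hF) Φ

end Cfsg.Agent.Lib.Fi24Recog91
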