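import Cfsg.Agent.Lib.Fi24.Fi23Sub
import Cfsg.Agent.Lib.Fi24Recog91.Frames
import Cfsg.Agent.Lib.Fi24Recog91.Checks

/-!
Words, points and centralisers in the presented Fi24.

An element sends a point by `F.act`; on a word this is the scan of the reversed word.
-/

set_option autoImplicit false
set_option maxRecDepth 20000

namespace Cfsg.Agent.Lib.Fi24Recog91

open Cfsg.Agent.Lib
open Cfsg.Agent.Lib.CosetEnum (allBelow allBelow_iff force force_eq)
open Cfsg.Agent.Lib.Fi24 (table xg)
open Cfsg.Agent.Lib.Fi24.Cert (col19 tget scanT)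
open Cfsg.Agent.Lib.Fi24.Out (OFacts tau val genPts)

attribute [local irreducible] Fi24.table Fi24.tree Fi24.small Fi24.big orb

/-- A point by its number. -/
def pt (n : ℕ) : Fin 306936 := ⟨n % 306936, Nat.mod_lt _ (by omega)⟩

theorem pt_val {n : ℕ} (h : n < 306936) : (pt n).1 = n := Nat.mod_eq_of_lt h

theorem pt_self (p : Fin 306936) : pt p.1 = p := Fin.ext (Nat.mod_eq_of_lt p.2)

theorem val_append (u v : List ℕ) : val (u ++ v) = val u * val v := by simp [val]

theorem val_nil : val [] = 1 := rfl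

theorem val_cons (g : ℕ) (w : List ℕ) : val (g :: w) = xg g * val w := by simp [val]

theorem val_single (g : ℕ) : val [g] = xg g := by simp [val]

theorem val_reverse : ∀ w : List ℕ, (∀ g ∈ w, g < 12) → val w.reverse = (val w)⁻¹ := by
  intro w
  induction w with
  | nil => intro _; simp [val]
  | cons g w ih =>
    intro hw
    rw [List.reverse_cons, val_append, ih fun x hx => hw x (List.mem_cons_of_mem _ hx), val_single, val_cons,
      mul_inv_rev, Fi24.xg_inv (hw g List.mem_cons_self)]

theorem parity_val : ∀ w : List ℕ,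
    Cfsg.Agent.S1691.parity (val w) = Multiplicative.ofAdd (1 : ZMod 2) ^ w.length := by
  intro w
  induction w with
  | nil => rfl
  | cons g w ih =>
    rw [val, List.map_cons, List.prod_cons, map_mul, List.length_cons, pow_succ', ← ih, val]
    congr 1

theorem parity_one {w : List ℕ} : Cfsg.Agent.S1691.parity (val w) = 1 ↔ w.length % 2 = 0 := by
  have h2 : Multiplicative.ofAdd (1 : ZMod 2) ^ 2 = 1 := by decide
  rw [parity_val, ← Nat.mod_add_div w.length 2, pow_add, pow_mul, h2, one_pow, mul_one]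
  rcases Nat.mod_two_eq_zero_or_one w.length with h | h <;> simp [h]

theorem xg0_not_mem : xg 0 ∉ commutator M := fun h => by
  have h1 : commutator M ≤ (Cfsg.Agent.S1691.parity).ker := Abelianization.commutator_subset_ker _
  have h2 := h1 h
  rw [MonoidHom.mem_ker, ← val_single, parity_one] at h2
  simp at h2

theorem mem_commutator_iff (a : M) : a ∈ commutator M ↔ Cfsg.Agent.S1691.parity a = 1 := by
  have h1 : commutator M ≤ (Cfsg.Agent.S1691.parity).ker := Abelianization.commutator_subset_ker _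
  refine ⟨fun h => h1 h, fun ha => ?_⟩
  by_contra hc
  have hm : a * xg 0 ∈ commutator M := (Subgroup.mul_mem_iff_of_index_two Cfsg.Agent.S1691.result).2
    ⟨fun h => absurd h hc, fun h => absurd h xg0_not_mem⟩
  have h2 := h1 hm
  rw [MonoidHom.mem_ker, map_mul, ha, one_mul, ← val_single, parity_one] at h2
  simp at h2

/-- The word is even and fixes the point. -/
noncomputable def evenOK (w : List ℕ) (p : ℕ) : Bool :=
  w.all (fun g => Nat.blt g 12) && Nat.beq (Nat.mod w.length 2) 0 && Nat.beq (scanT table w.reverse p) p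

theorem evenOK_spec {w : List ℕ} {p : ℕ} (h : evenOK w p = true) :
    (∀ g ∈ w, g < 12) ∧ w.length % 2 = 0 ∧ scanT table w.reverse p = p := by
  simp only [evenOK, Bool.and_eq_true, List.all_eq_true, Nat.blt_eq, Nat.beq_eq] at h
  exact ⟨h.1.1, h.1.2, h.2⟩

section

variable (F : OFacts)
include F

theorem mv_eq (a : M) : F.mv a = F.act a⁻¹ := by rw [OFacts.mv, map_inv]

theorem act_mul (a b : M) (i : Fin 306936) : F.act (a * b) i = F.act a (F.act b i) := by
  rw [map_mul, Equiv.Perm.mul_apply]

theorem act_one (i : Fin 306936) : F.act 1 i = i := by rw [map_one, Equiv.Perm.one_apply]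

theorem act_inv_self (a : M) (i : Fin 306936) : F.act a⁻¹ (F.act a i) = i := by
  rw [← act_mul F, inv_mul_cancel, act_one F]

theorem act_self_inv (a : M) (i : Fin 306936) : F.act a (F.act a⁻¹ i) = i := by
  rw [← act_mul F, mul_inv_cancel, act_one F]

theorem act_eq_iff {a : M} {i j : Fin 306936} : F.act a i = j ↔ i = F.act a⁻¹ j :=
  ⟨fun h => by rw [← h, act_inv_self F], fun h => by rw [h, act_self_inv F]⟩

theorem tau_act (x : M) (p : Fin 306936) : x * tau p.1 * x⁻¹ = tau (F.act x p).1 := by
  have h := F.tau_mv x⁻¹ p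
  rwa [inv_inv, mv_eq F, inv_inv] at h

theorem act_val {w : List ℕ} (hw : ∀ g ∈ w, g < 12) (i : Fin 306936) :
    (F.act (val w) i).1 = scanT table w.reverse i.1 := by
  have h := F.mv_val w.reverse (fun g hg => hw g (List.mem_reverse.1 hg)) i
  rwa [mv_eq F, val_reverse w hw, inv_inv] at h

theorem act_val_pt {w : List ℕ} {p q : ℕ} (hw : ∀ g ∈ w, g < 12) (hp : p < 306936) (hq : q < 306936)
    (h : scanT table w.reverse p = q) : F.act (val w) (pt p) = pt q :=
  Fin.ext (by rw [act_val F hw, pt_val hp, h, pt_val hq])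

theorem commute_tau_iff (x : M) (p : Fin 306936) : x * tau p.1 = tau p.1 * x ↔ F.act x p = p := by
  rw [← mul_inv_eq_iff_eq_mul, tau_act F]
  exact ⟨fun h => F.tau_injective h, fun h => by rw [h]⟩

theorem mem_evenCent_iff (x : M) (p : Fin 306936) :
    x ∈ evenCent p.1 ↔ F.act x p = p ∧ x ∈ commutator M := by
  rw [evenCent, Subgroup.mem_inf, Subgroup.mem_centralizer_singleton_iff, commute_tau_iff F]

theorem conj_mem_evenCent (g : M) {x : M} (p : Fin 306936) (hx : x ∈ evenCent p.1) :
    g * x * g⁻¹ ∈ evenCent (F.act g p).1 := by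
  rw [mem_evenCent_iff F] at hx ⊢
  refine ⟨?_, (inferInstance : (commutator M).Normal).conj_mem x hx.2 g⟩
  rw [act_mul F, act_mul F, act_inv_self F, hx.1]

theorem conj_inv_mem_evenCent (g : M) {x : M} (p : Fin 306936) (hx : x ∈ evenCent (F.act g p).1) :
    g⁻¹ * x * g ∈ evenCent p.1 := by
  have h := conj_mem_evenCent F g⁻¹ _ hx
  rwa [inv_inv, act_inv_self F] at h

/-- The transposition of a point from a path to it. -/
theorem tau_path {v : List ℕ} {p : ℕ} (hv : ∀ g ∈ v, g < 12) (hp : p < 306936) (h : scanT table v 0 = p) :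
    tau p = val (v.reverse ++ 0 :: v) := by
  rw [val_append, val_reverse v hv, val_cons, ← mul_assoc]
  have e : F.mv (val v) (pt 0) = pt p := Fin.ext (by
    rw [F.mv_val v hv, pt_val (show 0 < 306936 by omega), h, pt_val hp])
  have h1 := F.tau_mv (val v) (pt 0)
  rw [e, pt_val hp, pt_val (show 0 < 306936 by omega), Fi24.Out.tau_zero] at h1
  exact h1.symm

theorem val_eq {u v : List ℕ} (hu : ∀ g ∈ u, g < 12) (hv : ∀ g ∈ v, g < 12)
    (h : ∀ g < 12, scanT table u (genPts.getD g 0) = scanT table v (genPts.getD g 0)) : val u = val v :=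
  F.eq_of_genPts fun g hg hp => Fin.ext (by rw [F.mv_val u hu, F.mv_val v hv]; exact h g hg)

end

theorem val_mem {w : List ℕ} {p : ℕ} (hp : p < 306936) (h : evenOK w p = true) : val w ∈ evenCent p := by
  obtain ⟨F⟩ := Fi24.Out.nonempty_oFacts
  obtain ⟨hw, hl, hs⟩ := evenOK_spec h
  have := (mem_evenCent_iff F (val w) (pt p)).2
    ⟨act_val_pt F hw hp hp hs, (mem_commutator_iff _).2 (parity_one.2 hl)⟩
  rwa [pt_val hp] at this

theorem evenCent_le (p : ℕ) : evenCent p ≤ commutator M := inf_le_right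

/-- The group generated by the products `b g`. -/
noncomputable def smallGp : Subgroup M := Subgroup.closure {x | ∃ k < 9, val (gens.getD k []) = x}

theorem gens_lt : ∀ k < 9, ∀ g ∈ gens.getD k [], g < 12 := by decide +kernel

theorem val_gen_mem {k : ℕ} (hk : k < 9) : val (gens.getD k []) ∈ smallGp :=
  Subgroup.subset_closure ⟨k, hk, rfl⟩

theorem smallGp_le : smallGp ≤ evenCent₂ 0 2 := by
  refine (Subgroup.closure_le _).2 ?_
  rintro _ ⟨k, hk, rfl⟩
  have h : ∀ k < 9, evenOK (gens.getD k []) 0 = true ∧ evenOK (gens.getD k []) 2 = true := by decide +kernel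
  exact ⟨val_mem (by omega) (h k hk).1, val_mem (by omega) (h k hk).2⟩

theorem backWord_eq (k : ℕ) : ∃ j < 9, backWord k = gens.getD j [] := by
  refine ⟨invGen.getD k 0, ?_, rfl⟩
  rcases Nat.lt_or_ge k invGen.length with h | h
  · exact (show ∀ k < invGen.length, invGen.getD k 0 < 9 by decide +kernel) k h
  · rw [List.getD_eq_default _ _ h]; omega

theorem root_lt : ∀ r < 10, roots.getD r 0 < 306936 := by decide +kernel

/-- The root of a point. -/
noncomputable def root (p : Fin 306936) : Fin 306936 := pt (roots.getD (rootOf p.1) 0)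

theorem pointOK_spec {p : ℕ} (hp : p < 306936) :
    rootOf p < 10 ∧ (p = roots.getD (rootOf p) 0 ∨
      (scanT table (backWord (genOf p)) p < 306936 ∧ rootOf (scanT table (backWord (genOf p)) p) = rootOf p ∧
        rankOf (scanT table (backWord (genOf p)) p) < rankOf p)) ∧
    (tget table p 0 = p → tget table p 1 = p → (2 < rootOf p ∧ rootOf p < 6) ∧
      ((∀ g ∈ ([5, 6, 7, 8, 9, 10, 11] : List ℕ), scanT table [g, 3] p = p) → p = 12)) := by
  have h := pointOK_all p hp
  simp only [pointOK, force_eq, Bool.and_eq_true, Bool.or_eq_true, Bool.not_eq_true', Bool.and_eq_false_iff,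
    List.all_eq_true, List.all_eq_false, Nat.blt_eq, Nat.beq_eq] at h
  obtain ⟨⟨hr, ht⟩, hf⟩ := h
  refine ⟨hr, ?_, fun h0 h1 => ?_⟩
  · rcases ht with ⟨-, ht⟩ | ⟨a, b, c⟩
    · exact Or.inl ht
    · exact Or.inr ⟨a, b, c⟩
  · rcases hf with hf | ⟨⟨h2, h3⟩, hf⟩
    · exfalso
      rcases hf with hf | hf <;> · rw [← Bool.not_eq_true, Nat.beq_eq] at hf; exact hf (by assumption)
    · refine ⟨⟨h2, h3⟩, fun hall => ?_⟩
      rcases hf with hf | ⟨g, hg, hne⟩
      · exact hf
      · exact absurd (hall g hg) hne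

section

variable (F : OFacts)
include F

/-- Every point is moved from its root by the small group. -/
theorem orbit_spec (p : Fin 306936) : ∃ w ∈ smallGp, F.act w (root p) = p := by
  suffices ∀ n, ∀ p : Fin 306936, rankOf p.1 = n → ∃ w ∈ smallGp, F.act w (root p) = p from this _ p rfl
  intro n
  induction n using Nat.strong_induction_on with
  | _ n ih =>
    intro p hn
    obtain ⟨hr, ht, -⟩ := pointOK_spec p.2
    rcases ht with ht | ⟨hlt, hroot, hrank⟩
    · exact ⟨1, one_mem _, by rw [act_one F, root, ← ht, pt_self]⟩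
    obtain ⟨j, hj, hbw⟩ := backWord_eq (genOf p.1)
    obtain ⟨w, hw, he⟩ := ih _ (hn ▸ hrank) ⟨_, hlt⟩ rfl
    have hq : F.mv (val (gens.getD j [])) p = ⟨_, hlt⟩ := Fin.ext (by
      rw [F.mv_val _ (gens_lt j hj), ← hbw])
    refine ⟨val (gens.getD j []) * w, mul_mem (val_gen_mem hj) hw, ?_⟩
    rw [act_mul F, show root p = root ⟨_, hlt⟩ by rw [root, root]; exact congrArg (fun r => pt (roots.getD r 0)) hroot.symm,
      he, ← hq, mv_eq F, act_self_inv F]

theorem root_val (p : Fin 306936) : (root p).1 = roots.getD (rootOf p.1) 0 :=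
  pt_val (root_lt _ (pointOK_spec p.2).1)

/-- The small group fixes only the first three roots. -/
theorem fixed_smallGp (p : Fin 306936) (h : ∀ w ∈ smallGp, F.act w p = p) : p.1 = 0 ∨ p.1 = 1 ∨ p.1 = 2 := by
  obtain ⟨w, hw, he⟩ := orbit_spec F p
  have hp : root p = p := by
    rw [act_eq_iff F] at he
    rw [he, h _ (inv_mem hw)]
  have hfix : ∀ k < 9, scanT table (gens.getD k []).reverse p.1 = p.1 := fun k hk => by
    rw [← act_val F (gens_lt k hk), h _ (val_gen_mem hk)]
  have hv := root_val F p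
  rw [hp] at hv
  rw [hv] at hfix ⊢
  exact (show ∀ r < 10, (∀ k < 9, scanT table (gens.getD k []).reverse (roots.getD r 0) = roots.getD r 0) →
    roots.getD r 0 = 0 ∨ roots.getD r 0 = 1 ∨ roots.getD r 0 = 2 by decide +kernel) _ (pointOK_spec p.2).1 hfix

end

end Cfsg.Agent.Lib.Fi24Recog91
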