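import Cfsg.Agent.Lib.Fi24Recog91.Graph
import Cfsg.Agent.Lib.Fi24Recog91.Classes
import Cfsg.Prelude.Def_Spor_Fi24

/-!
The embedding of Fi24' is onto: it contains the centraliser of every involution it meets, and there are two
classes of involutions.
-/

set_option autoImplicit false
set_option maxRecDepth 20000
set_option linter.style.haveILetI false

namespace Cfsg.Agent.Lib.Fi24Recog91

open Cfsg.Agent.Lib
open Cfsg.Agent.Lib.Fi24 (table xg)
open Cfsg.Agent.Lib.Fi24.Out (OFacts tau val genPts transps)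
open Cfsg.Agent.Lib.FischerMTypes.Step (IsProd)

attribute [local irreducible] Fi24.table Fi24.tree Fi24.small Fi24.big orb

/-- Involutions that are not conjugate commute with a third. -/
theorem exists_common {G : Type*} [Group G] [Finite G] {x t : G} (hx : orderOf x = 2) (ht : orderOf t = 2)
    (hn : ¬ IsConj x t) : ∃ w : G, orderOf w = 2 ∧ Commute w x ∧ Commute w t := by
  have hx2 : x * x = 1 := by rw [← pow_two, ← hx]; exact pow_orderOf_eq_one x
  have ht2 : t * t = 1 := by rw [← pow_two, ← ht]; exact pow_orderOf_eq_one t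
  set d := x * t
  have hxd : x * d * x⁻¹ = d⁻¹ := by
    rw [inv_eq_of_mul_eq_one_right hx2, ← mul_assoc, hx2, one_mul, mul_inv_rev,
      inv_eq_of_mul_eq_one_right hx2, inv_eq_of_mul_eq_one_right ht2]
  have hpow : ∀ k : ℕ, x * d ^ k * x⁻¹ = (d ^ k)⁻¹ := fun k => by
    rw [← conj_pow, hxd, inv_pow]
  obtain ⟨k, hk | hk⟩ : ∃ k, orderOf d = 2 * k ∨ orderOf d = 2 * k + 1 :=
    ⟨orderOf d / 2, by omega⟩
  · have hpos := orderOf_pos d
    have hk0 : k ≠ 0 := by omega
    have hd : d ^ k * d ^ k = 1 := by rw [← pow_add, ← two_mul, ← hk]; exact pow_orderOf_eq_one d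
    refine ⟨d ^ k, orderOf_eq_prime (by rw [pow_two]; exact hd) fun h => ?_, ?_, ?_⟩
    · have := orderOf_le_of_pow_eq_one (by omega) h
      omega
    · show d ^ k * x = x * d ^ k
      have h := hpow k
      rw [inv_eq_of_mul_eq_one_right hd, mul_inv_eq_iff_eq_mul] at h
      exact h.symm
    · have hwx : Commute (d ^ k) x := by
        show d ^ k * x = x * d ^ k
        have h := hpow k
        rw [inv_eq_of_mul_eq_one_right hd, mul_inv_eq_iff_eq_mul] at h
        exact h.symm
      have e : t = x⁻¹ * d := by rw [inv_mul_cancel_left]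
      rw [e]
      exact hwx.inv_right.mul_right ((Commute.refl d).pow_left k)
  · exfalso
    refine hn (isConj_iff.2 ⟨(d ^ (k + 1))⁻¹, ?_⟩)
    have h := hpow (k + 1)
    have hd : d ^ (2 * k + 1) = 1 := by rw [← hk]; exact pow_orderOf_eq_one d
    rw [inv_inv, ← h,
      show x * d ^ (k + 1) * x⁻¹ * x * d ^ (k + 1) = x * (d ^ (k + 1) * d ^ (k + 1)) by group,
      ← pow_add, show k + 1 + (k + 1) = 2 * k + 1 + 1 by omega, pow_succ, hd, one_mul, ← mul_assoc, hx2, one_mul]

theorem cent_le_range {G : Type*} [Group G] [Finite G] {f : ↥(commutator M) →* G} (hf : Function.Injective f)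
    {x : M} (hx : x ∈ commutator M) {N : ℕ}
    (hN : Nat.card ↥(Subgroup.centralizer ({f ⟨x, hx⟩} : Set G)) ≤ N)
    (hle : N ≤ Nat.card ↥(commutator M ⊓ Subgroup.centralizer ({x} : Set M))) :
    Subgroup.centralizer ({f ⟨x, hx⟩} : Set G) ≤ f.range := by
  set C := commutator M ⊓ Subgroup.centralizer ({x} : Set M)
  have h1 : (C.subgroupOf (commutator M)).map f ≤ Subgroup.centralizer ({f ⟨x, hx⟩} : Set G) := by
    rintro _ ⟨a, ha, rfl⟩
    rw [Subgroup.mem_centralizer_singleton_iff, ← map_mul, ← map_mul]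
    exact congrArg f (Subtype.ext (Subgroup.mem_centralizer_singleton_iff.1 (Subgroup.mem_subgroupOf.1 ha).2))
  have h2 : Nat.card ↥((C.subgroupOf (commutator M)).map f) = Nat.card ↥C := by
    rw [Subgroup.card_map_of_injective hf, Nat.card_congr (Subgroup.subgroupOfEquivOfLe inf_le_left).toEquiv]
  rw [← Subgroup.eq_of_le_of_card_ge h1 (by rw [h2]; omega)]
  exact Subgroup.map_le_range f _

theorem card_cent_conj {G : Type*} [Group G] {a b : G} (h : IsConj a b) :
    Nat.card ↥(Subgroup.centralizer ({a} : Set G)) = Nat.card ↥(Subgroup.centralizer ({b} : Set G)) := by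
  obtain ⟨g, rfl⟩ := isConj_iff.1 h
  have e : (Subgroup.centralizer ({a} : Set G)).map (MulAut.conj g).toMonoidHom =
      Subgroup.centralizer ({g * a * g⁻¹} : Set G) := by
    ext y
    rw [Subgroup.mem_map_equiv, MulAut.conj_symm_apply, Subgroup.mem_centralizer_singleton_iff,
      Subgroup.mem_centralizer_singleton_iff]
    constructor <;> intro hy
    · calc y * (g * a * g⁻¹) = g * (g⁻¹ * y * g * a) * g⁻¹ := by group
        _ = _ := by rw [hy]; group
    · calc g⁻¹ * y * g * a = g⁻¹ * (y * (g * a * g⁻¹)) * g := by group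
        _ = _ := by rw [hy]; group
  rw [← e]
  exact (Subgroup.card_map_of_injective (f := (MulAut.conj g).toMonoidHom) (MulAut.conj g).injective).symm

theorem card_pair_cent :
    2 * Nat.card ↥(evenCent₂ 0 ptB) ≤
      Nat.card ↥(commutator M ⊓ Subgroup.centralizer ({tau 0 * tau ptB} : Set M)) := by
  obtain ⟨F⟩ := Fi24.Out.nonempty_oFacts
  haveI : Finite M := Fi24.finite_G
  set C := commutator M ⊓ Subgroup.centralizer ({tau 0 * tau ptB} : Set M)
  have hle : evenCent₂ 0 ptB ≤ C := fun x hx => by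
    refine ⟨evenCent_le _ hx.1, Subgroup.mem_centralizer_singleton_iff.2 ?_⟩
    rw [← mul_assoc, Subgroup.mem_centralizer_singleton_iff.1 hx.1.1, mul_assoc,
      Subgroup.mem_centralizer_singleton_iff.1 hx.2.1, mul_assoc]
  have hs : ∀ g ∈ sWord, g < 12 := by decide +kernel
  have hdv : tau 0 * tau ptB = val [0, 3] := by
    have h := (F.genPts_tau 3 (by omega)).2
    rw [show genPts.getD 3 0 = ptB by decide +kernel] at h
    rw [h, Fi24.Out.tau_zero]; simp [val]
  have hsC : val sWord ∈ C := by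
    refine ⟨(mem_commutator_iff _).2 (parity_one.2 (by decide +kernel)),
      Subgroup.mem_centralizer_singleton_iff.2 ?_⟩
    rw [hdv, ← val_append, ← val_append]
    exact val_eq F (by decide +kernel) (by decide +kernel) (by decide +kernel)
  have hsn : val sWord ∉ evenCent₂ 0 ptB := fun h => by
    have h0 := act0 F h.1
    rw [act_val_pt F hs (q := 12) (by omega) (by omega) (by decide +kernel)] at h0
    exact absurd (congrArg Fin.val h0) (by decide)
  obtain ⟨k, hk⟩ := Subgroup.card_dvd_of_le hle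
  rw [hk]
  rcases k with _ | _ | k
  · rw [mul_zero] at hk
    exact absurd hk Nat.card_pos.ne'
  · exfalso
    rw [zero_add, mul_one] at hk
    exact hsn (Subgroup.eq_of_le_of_card_ge hle hk.le ▸ hsC)
  · rw [mul_comm]
    exact Nat.mul_le_mul_left _ (by omega)

/-- Three agreeing copies of Fi23 in a group with the centraliser of `z` as large as in Fi24' give Fi24'. -/
theorem iso_of_frames {G : Type*} [Group G] [Finite G] {z : G} (hz : orderOf z = 2)
    (hC : Nat.card ↥(Subgroup.centralizer ({z} : Set G)) = 3 * 2 ^ 13 * 6531840) (Φ : Frames G z) :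
    Cfsg.Spor.IsoFi24' G := by
  obtain ⟨F⟩ := Fi24.Out.nonempty_oFacts
  obtain ⟨f, hinj, hext⟩ := exists_hom Φ F
  have hd : tau 0 * tau ptB ∈ evenCent 0 := by
    have h := (F.genPts_tau 3 (by omega)).2
    rw [show genPts.getD 3 0 = ptB by decide +kernel] at h
    rw [h, Fi24.Out.tau_zero, show xg 0 * xg 3 = val [0, 3] by simp [val]]
    exact val_mem (by omega) (by decide +kernel)
  have hdc : tau 0 * tau ptB ∈ commutator M := evenCent_le _ hd
  have hft : f ⟨_, hdc⟩ = Φ.ψ₀ ⟨_, hd⟩ := hext _ hd hdc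
  set t := Φ.ψ₀ ⟨_, hd⟩ with htdef
  have hpairP : IsProd transps 2 (tau 0 * tau ptB) := by
    have hne : tau 0 ≠ tau ptB := fun h => absurd (congrArg Fin.val
      (F.tau_injective (show tau (pt 0).1 = tau (pt 12).1 from h))) (by decide)
    have hc : Commute (tau 0) (tau ptB) := by
      have h := Subgroup.mem_centralizer_singleton_iff.1 hd.1
      rw [mul_assoc] at h
      exact (mul_left_cancel h).symm
    refine ⟨[tau 0, tau ptB], by simpa using hne, rfl, ?_, ?_, by simp⟩
    · intro a ha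
      simp only [List.mem_cons, List.not_mem_nil, or_false] at ha
      rcases ha with rfl | rfl
      · exact ⟨pt 0, rfl⟩
      · exact ⟨pt 12, rfl⟩
    · intro a ha b hb
      simp only [List.mem_cons, List.not_mem_nil, or_false] at ha hb
      rcases ha with rfl | rfl <;> rcases hb with rfl | rfl
      exacts [Commute.refl _, hc, hc.symm, Commute.refl _]
  have htI : Subgroup.centralizer ({t} : Set G) ≤ f.range := by
    rw [← hft]
    refine cent_le_range hinj hdc (N := 2 * Nat.card ↥(evenCent₂ 0 ptB)) ?_ card_pair_cent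
    rw [hft, Φ.card_duad hd]
  -- every involution in the image is of one of two classes
  have hkind : ∀ w ∈ f.range, orderOf w = 2 → (∃ g ∈ f.range, g * t * g⁻¹ = w) ∨
      ∃ x : M, ∃ hx : x ∈ commutator M, IsProd transps 4 x ∧ f ⟨x, hx⟩ = w := by
    rintro _ ⟨⟨x, hx⟩, rfl⟩ hw
    have h2 : orderOf x = 2 := by
      rw [orderOf_injective f hinj, Subgroup.orderOf_mk] at hw
      exact hw
    rcases involution_kinds hx h2 with h | h
    · obtain ⟨g, hg, e⟩ := conj_in_derived (by omega) (by omega) hpairP h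
      refine Or.inl ⟨f ⟨g, hg⟩, ⟨_, rfl⟩, ?_⟩
      rw [← hft, ← map_inv, ← map_mul, ← map_mul]
      exact congrArg f (Subtype.ext e)
    · exact Or.inr ⟨x, hx, h, rfl⟩
  obtain ⟨z', hzz', hz't⟩ := Φ.meets_z hd
  have hz'2 : orderOf z' = 2 := by
    obtain ⟨c, rfl⟩ := isConj_iff.1 hzz'
    rw [← hz]
    exact orderOf_injective (MulAut.conj c).toMonoidHom (MulAut.conj c).injective z
  have hz'I : z' ∈ f.range := htI (Subgroup.mem_centralizer_singleton_iff.2 hz't.eq)
  obtain ⟨x0, hx0, hq0, hfx0⟩ := (hkind z' hz'I hz'2).resolve_left fun ⟨g, _, e⟩ =>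
    Φ.not_conj_z hd (hzz'.trans (isConj_iff.2 ⟨g, e⟩).symm)
  have hconjI : ∀ a c : G, c ∈ f.range → Subgroup.centralizer ({a} : Set G) ≤ f.range →
      Subgroup.centralizer ({c * a * c⁻¹} : Set G) ≤ f.range := by
    intro a c hc hle y hy
    have h := hle (show c⁻¹ * y * c ∈ Subgroup.centralizer ({a} : Set G) by
      rw [Subgroup.mem_centralizer_singleton_iff] at hy ⊢
      calc c⁻¹ * y * c * a = c⁻¹ * (y * (c * a * c⁻¹)) * c := by group
        _ = _ := by rw [hy]; group)
    have h2 := mul_mem (mul_mem hc h) (inv_mem hc)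
    rwa [show c * (c⁻¹ * y * c) * c⁻¹ = y by group] at h2
  have hquad : ∀ x (hx : x ∈ commutator M), IsProd transps 4 x →
      ∃ c ∈ f.range, c * z' * c⁻¹ = f ⟨x, hx⟩ := by
    intro x hx hq
    obtain ⟨g, hg, e⟩ := conj_in_derived (by omega) (by omega) hq0 hq
    refine ⟨f ⟨g, hg⟩, ⟨_, rfl⟩, ?_⟩
    rw [← hfx0, ← map_inv, ← map_mul, ← map_mul]
    exact congrArg f (Subtype.ext e)
  have hz'le : Subgroup.centralizer ({z'} : Set G) ≤ f.range := by
    rw [← hfx0]
    refine cent_le_range hinj hx0 (N := 3 * 2 ^ 13 * 6531840) ?_ (card_quad_cent hq0).ge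
    rw [hfx0, ← card_cent_conj hzz', hC]
  have hinv : ∀ w ∈ f.range, orderOf w = 2 → Subgroup.centralizer ({w} : Set G) ≤ f.range := by
    intro w hw h2
    rcases hkind w hw h2 with ⟨g, hg, rfl⟩ | ⟨x, hx, hq, rfl⟩
    · exact hconjI t g hg htI
    · obtain ⟨c, hc, e⟩ := hquad x hx hq
      rw [← e]
      exact hconjI z' c hc hz'le
  have ht2 : orderOf t = 2 := by
    have h2 : orderOf (tau 0 * tau ptB) = 2 := by
      have hc := Subgroup.mem_centralizer_singleton_iff.1 hd.1
      rw [mul_assoc] at hc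
      refine orderOf_eq_prime ?_ fun h => ?_
      · rw [pow_two, mul_assoc, ← mul_assoc (tau ptB), mul_left_cancel hc, mul_assoc (tau 0), Fi24.Out.tau_sq,
          mul_one, Fi24.Out.tau_sq]
      · have h' := inv_eq_of_mul_eq_one_right h
        rw [inv_eq_of_mul_eq_one_right (Fi24.Out.tau_sq 0)] at h'
        exact absurd (congrArg Fin.val
          (F.tau_injective (show tau (pt 0).1 = tau (pt 12).1 from h'))) (by decide)
    rw [← hft, orderOf_injective f hinj, Subgroup.orderOf_mk]
    exact h2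
  have hall : ∀ g : G, g ∈ f.range := by
    intro g
    have hnc : ¬ IsConj (g * z' * g⁻¹) t := fun h =>
      Φ.not_conj_z hd (hzz'.trans ((isConj_iff.2 ⟨g, rfl⟩).trans h))
    have hx2 : orderOf (g * z' * g⁻¹) = 2 :=
      (orderOf_injective (MulAut.conj g).toMonoidHom (MulAut.conj g).injective z').trans hz'2
    obtain ⟨w, hw2, hwx, hwt⟩ := exists_common hx2 ht2 hnc
    have hwI : w ∈ f.range := htI (Subgroup.mem_centralizer_singleton_iff.2 hwt.eq)
    have hxI : g * z' * g⁻¹ ∈ f.range :=
      hinv w hwI hw2 (Subgroup.mem_centralizer_singleton_iff.2 hwx.eq.symm)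
    rcases hkind _ hxI hx2 with ⟨c, -, e⟩ | ⟨x, hx, hq, e⟩
    · exact absurd (isConj_iff.2 ⟨c, e⟩).symm hnc
    · obtain ⟨c, hc, e'⟩ := hquad x hx hq
      rw [e] at e'
      have h : c⁻¹ * g ∈ Subgroup.centralizer ({z'} : Set G) := by
        rw [Subgroup.mem_centralizer_singleton_iff]
        calc c⁻¹ * g * z' = c⁻¹ * (g * z' * g⁻¹) * g := by group
          _ = _ := by rw [← e']; group
      have h2 := mul_mem hc (hz'le h)
      rwa [mul_inv_cancel_left] at h2
  exact ⟨(MulEquiv.ofBijective f ⟨hinj, fun y => hall y⟩).symm⟩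

end Cfsg.Agent.Lib.Fi24Recog91
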